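import Groth.Agent.Compactify.SectProper

/-!
# Fibrewise components of proper type are proper near a point (EGA IV 15.7.10)
-/

set_option autoImplicit false
set_option linter.style.haveILetI false
set_option backward.isDefEq.respectTransparency false
set_option backward.isDefEq.respectTransparency.types false

open CategoryTheory CategoryTheory.Limits AlgebraicGeometry Topology

namespace Groth.Agent.Compactify

universe u

variable {X Y : Scheme.{u}}

/-- An integral scheme over a field is totally disconnected. -/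
theorem totallyDisconnected_of_integral_over_field {M : Scheme.{u}} {K : Type u} [Field K]
    (μ : M ⟶ Spec (CommRingCat.of K)) [IsIntegralHom μ] : TotallyDisconnectedSpace M := by
  let z : Spec (CommRingCat.of K) := IsLocalRing.closedPoint K
  haveI := totallyDisconnected_fiber_of_isIntegralHom μ z
  have hr : Set.range (μ.fiberι z) = Set.univ := by
    rw [Scheme.Hom.range_fiberι]
    exact Set.eq_univ_of_forall fun m => (inferInstance : Subsingleton ↥(Spec (CommRingCat.of K))).elim _ _
  exact ((μ.fiberι z).isEmbedding.toHomeomorph.trans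
    ((Homeomorph.setCongr hr).trans (Homeomorph.Set.univ _))).totallyDisconnectedSpace

/-- The trace of `Z` on the base change to a field is connected. -/
theorem isPreconnected_preimage_field (f : X ⟶ Y) (Z : Set X) (y : Y)
    (h : ∀ y' : Y, y' ⤳ y → ∀ (K : Type u) [Field K] [Algebra (IsLocalRing.ResidueField (Y.presheaf.stalk y')) K],
      _root_.IsPreconnected ((FBase.bcπ (f.fiberToSpecResidueField y') K ≫ f.fiberι y').base ⁻¹' Z))
    (K : Type u) [Field K] (j : Spec (CommRingCat.of K) ⟶ Y) (hj : j (IsLocalRing.closedPoint K) ⤳ y) :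
    _root_.IsPreconnected (pullback.fst f j ⁻¹' Z) := by
  obtain ⟨⟨y', τ⟩, hτ⟩ : ∃ p : Σ x : Y, Y.residueField x ⟶ CommRingCat.of K,
      Spec.map p.2 ≫ Y.fromSpecResidueField p.1 = j :=
    ⟨Scheme.SpecToEquivOfField K Y j, (Scheme.SpecToEquivOfField K Y).symm_apply_apply j⟩
  subst hτ
  rw [Scheme.Hom.comp_apply, Scheme.fromSpecResidueField_apply] at hj
  letI : Algebra (IsLocalRing.ResidueField (Y.presheaf.stalk y')) K := τ.hom.toAlgebra
  have hsq : IsPullback (FBase.bcπ (f.fiberToSpecResidueField y') K ≫ f.fiberι y')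
      (FBase.bcStr (f.fiberToSpecResidueField y') K) f (Spec.map τ ≫ Y.fromSpecResidueField y') :=
    (IsPullback.of_hasPullback (f.fiberToSpecResidueField y') (Spec.map τ)).paste_horiz
      (IsPullback.of_hasPullback f (Y.fromSpecResidueField y'))
  let e := hsq.isoPullback
  have he : pullback.fst f (Spec.map τ ≫ Y.fromSpecResidueField y') ⁻¹' Z =
      e.hom '' ((FBase.bcπ (f.fiberToSpecResidueField y') K ≫ f.fiberι y').base ⁻¹' Z) := by
    rw [← hsq.isoPullback_hom_fst, Scheme.Hom.comp_base, TopCat.coe_comp, Set.preimage_comp,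
      Set.image_preimage_eq _ (show Function.Surjective e.hom from e.hom.homeomorph.surjective)]
  rw [he]
  exact (h y' hj K).image _ e.hom.continuous.continuousOn

/-- Over a henselian local base a universally submersive family of proper components is closed. -/
theorem components_henselian (f : X ⟶ Y) [IsSeparated f] [LocallyOfFiniteType f] [QuasiCompact f]
    (Z : Set X) (y : Y)
    (hc : ∀ y' : Y, y' ⤳ y → ∃ x ∈ Z, f.base x = y' ∧ Z ∩ f.base ⁻¹' {y'} = connectedComponentIn (f.base ⁻¹' {y'}) x)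
    (hg : ∀ y' : Y, y' ⤳ y → ∀ (K : Type u) [Field K] [Algebra (IsLocalRing.ResidueField (Y.presheaf.stalk y')) K],
      _root_.IsPreconnected ((FBase.bcπ (f.fiberToSpecResidueField y') K ≫ f.fiberι y').base ⁻¹' Z))
    (hop : IsOpen ((f.fiberι y).base ⁻¹' Z))
    (h2 : IsProper (Scheme.Opens.ι (⟨(f.fiberι y).base ⁻¹' Z, hop⟩ : (f.fiber y).Opens) ≫ f.fiberToSpecResidueField y))
    (h3 : ∀ (Y' : Scheme.{u}) (h : Y' ⟶ Y) (E : Set Y'), E ⊆ h.base ⁻¹' (f.base '' Z) →
      (∃ W : Set ↥(pullback f h), IsOpen W ∧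
        W ∩ (pullback.fst f h).base ⁻¹' Z = (pullback.snd f h).base ⁻¹' E ∩ (pullback.fst f h).base ⁻¹' Z) →
      ∃ V : Set Y', IsOpen V ∧ V ∩ h.base ⁻¹' (f.base '' Z) = E)
    {R : CommRingCat.{u}} [HenselianLocalRing R] (a : Spec R ⟶ Y) (hay : a (IsLocalRing.closedPoint R) = y) :
    ∃ W : (pullback f a).Opens, IsProper (W.ι ≫ pullback.snd f a) ∧ IsClosed (W : Set ↥(pullback f a)) ∧
      pullback.fst f a ⁻¹' Z ⊆ W ∧ IsClosed (pullback.fst f a ⁻¹' Z) := by
  let q := pullback.snd f a
  let Z' : Set ↥(pullback f a) := pullback.fst f a ⁻¹' Z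
  have hgen : ∀ P, a P ⤳ y := fun P => hay ▸ (IsLocalRing.specializes_closedPoint P).map a.continuous
  have hfq : ∀ p, f (pullback.fst f a p) = a (q p) := fun p => by
    rw [← Scheme.Hom.comp_apply, pullback.condition, Scheme.Hom.comp_apply]
  have hsurjY : ∀ P, a P ∈ f '' Z := fun P => by
    obtain ⟨x, hx, hfx, -⟩ := hc (a P) (hgen P)
    exact ⟨x, hx, hfx⟩
  have hne : ∀ P, ∃ p ∈ Z', q p = P := fun P => by
    obtain ⟨x, hx, hfx⟩ := hsurjY P
    obtain ⟨p, hp, hpP⟩ := Scheme.Pullback.exists_preimage_pullback (f := f) (g := a) x P hfx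
    exact ⟨p, show pullback.fst f a p ∈ Z from hp ▸ hx, hpP⟩
  -- the fibres of `Z'` are connected
  have hfib : ∀ P, _root_.IsPreconnected (Z' ∩ q ⁻¹' {P}) := fun P => by
    let c : Spec ((Spec R).residueField P) ⟶ Y := (Spec R).fromSpecResidueField P ≫ a
    have sq : IsPullback (q.fiberι P ≫ pullback.fst f a) (q.fiberToSpecResidueField P) f c :=
      (IsPullback.of_hasPullback q ((Spec R).fromSpecResidueField P)).paste_horiz (IsPullback.of_hasPullback f a)
    have hpc := isPreconnected_preimage_field f Z y hg ((Spec R).residueField P) c (by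
      rw [Scheme.Hom.comp_apply]
      exact (specializes_of_eq (congrArg a (Scheme.fromSpecResidueField_apply P _))).trans (hgen P))
    have e : Z' ∩ q ⁻¹' {P} = (sq.isoPullback.inv ≫ q.fiberι P) '' (pullback.fst f c ⁻¹' Z) := by
      rw [← Scheme.Hom.range_fiberι, ← Set.image_preimage_eq_inter_range, Scheme.Hom.comp_base, TopCat.coe_comp,
        Set.image_comp, ← sq.isoPullback_inv_fst, Scheme.Hom.comp_base, TopCat.coe_comp, Set.preimage_comp,
        Set.image_preimage_eq _ (show Function.Surjective sq.isoPullback.inv from sq.isoPullback.inv.homeomorph.surjective)]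
      rfl
    rw [e]
    exact hpc.image _ (sq.isoPullback.inv ≫ q.fiberι P).continuous.continuousOn
  -- the proper clopen part
  let Y₀ : (f.fiber y).Opens := ⟨(f.fiberι y).base ⁻¹' Z, hop⟩
  haveI : IsProper (Y₀.ι ≫ f.fiberToSpecResidueField y) := h2
  obtain ⟨T, t, ht, hr⟩ := exists_closedFibre_part f a y hay (Y₀.ι ≫ f.fiberι y)
    (Y₀.ι ≫ f.fiberToSpecResidueField y) (by rw [Category.assoc, Category.assoc]; congr 1; exact pullback.condition)
  haveI : IsProper (t ≫ q) := ht
  obtain ⟨O₀, hO₀, hOY⟩ := (f.fiberι y).isEmbedding.isInducing.isOpen_iff.1 hop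
  have hcl : ∀ p, q p ∈ PrimeSpectrum.zeroLocus (IsLocalRing.maximalIdeal R : Set R) →
      q p = IsLocalRing.closedPoint R ∧ ∃ z, f.fiberι y z = pullback.fst f a p := fun p hp => by
    have hp' : q p = IsLocalRing.closedPoint R := by
      refine PrimeSpectrum.ext ?_
      exact ((IsLocalRing.maximalIdeal.isMaximal R).eq_of_le (q p).isPrime.ne_top
        ((PrimeSpectrum.mem_zeroLocus _ _).1 hp)).symm
    refine ⟨hp', ?_⟩
    have hfp : f (pullback.fst f a p) = y := by rw [hfq, hp', hay]
    have : pullback.fst f a p ∈ Set.range (f.fiberι y) := by rw [Scheme.Hom.range_fiberι]; exact hfp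
    exact this
  have hO : Set.range t = (pullback.fst f a ⁻¹' O₀) ∩ q ⁻¹' PrimeSpectrum.zeroLocus (IsLocalRing.maximalIdeal R : Set R) := by
    rw [hr]
    ext p
    refine and_congr_left fun hp => ?_
    obtain ⟨-, z, hz⟩ := hcl p hp
    rw [Set.mem_preimage, Set.mem_preimage, Scheme.Hom.comp_base, TopCat.coe_comp, Set.range_comp,
      Scheme.Opens.range_ι, ← hz, (f.fiberι y).injective.mem_set_image]
    exact (Set.ext_iff.1 hOY z).symm
  obtain ⟨W, hWc, hWp, hW⟩ := exists_clopen_proper (IsLocalRing.maximalIdeal R) q t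
    ⟨_, hO₀.preimage (pullback.fst f a).continuous⟩ hO
  have hW0 : ∀ p ∈ Z', q p = IsLocalRing.closedPoint R → p ∈ W := fun p hp hp' => by
    have hp'' : q p ∈ PrimeSpectrum.zeroLocus (IsLocalRing.maximalIdeal R : Set R) := by
      rw [hp']; exact (PrimeSpectrum.mem_zeroLocus _ _).2 (Set.Subset.refl _)
    refine (hW.ge (hr.ge ⟨?_, hp''⟩)).1
    obtain ⟨-, z, hz⟩ := hcl p hp''
    rw [Set.mem_preimage, Scheme.Hom.comp_base, TopCat.coe_comp, Set.range_comp, Scheme.Opens.range_ι]
    exact ⟨z, show f.fiberι y z ∈ Z from hz ▸ hp, hz⟩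
  -- all of `Z'` lies in it
  have hsat : ∀ p ∈ Z', ∀ p' ∈ Z', q p = q p' → p' ∈ W → p ∈ W := fun p hp p' hp' he hpW =>
    (hfib (q p)).subset_isClopen ⟨hWc, W.2⟩ ⟨p', ⟨hp', he.symm⟩, hpW⟩ ⟨hp, rfl⟩
  have hsub : Z' ⊆ (W : Set ↥(pullback f a)) := by
    let E : Set ↥(Spec R) := q '' (Z' ∩ W)
    obtain ⟨V, hV, hVE⟩ := h3 (Spec R) a E (fun P _ => hsurjY P) ⟨W, W.2, by
      ext p
      refine ⟨fun h => ⟨⟨p, ⟨h.2, h.1⟩, rfl⟩, h.2⟩, fun h => ⟨?_, h.2⟩⟩
      obtain ⟨p', hp', he⟩ := h.1
      exact hsat p h.2 p' hp'.1 he.symm hp'.2⟩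
    intro p hp
    have hE : q p ∈ E := by
      obtain ⟨p₀, hp₀, hq₀⟩ := hne (IsLocalRing.closedPoint R)
      have h0 : IsLocalRing.closedPoint R ∈ V := (hVE.ge ⟨p₀, ⟨hp₀, hW0 p₀ hp₀ hq₀⟩, hq₀⟩).1
      exact hVE.le ⟨(IsLocalRing.specializes_closedPoint (q p)).mem_open hV h0, hsurjY _⟩
    obtain ⟨p', hp', he⟩ := hE
    exact hsat p hp p' hp'.1 he.symm hp'.2
  refine ⟨W, hWp, hWc, hsub, ?_⟩
  -- Stein factorization of the proper part
  haveI : IsProper (W.ι ≫ q) := hWp
  haveI : IsClosedImmersion W.ι := IsClosedImmersion.of_isPreimmersion _ (by rw [Scheme.Opens.range_ι]; exact hWc)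
  let π := (W.ι ≫ q).toNormalization
  let ν := (W.ι ≫ q).fromNormalization
  haveI : GeometricallyConnected π := SteinLib.geometricallyConnected_toNormalization_general (W.ι ≫ q)
  have hπν : π ≫ ν = W.ι ≫ q := (W.ι ≫ q).toNormalization_fromNormalization
  have hπν' : ∀ w, ν (π w) = q (W.ι w) := fun w => by
    rw [← Scheme.Hom.comp_apply, hπν, Scheme.Hom.comp_apply]
  let ZW : Set W.toScheme := W.ι ⁻¹' Z'
  let S : Set ↥((W.ι ≫ q).normalization) := π '' ZW
  -- one point over each point of the base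
  have hone : ∀ n ∈ S, ∀ n' ∈ S, ν n = ν n' → n = n' := by
    rintro _ ⟨w, hw, rfl⟩ _ ⟨w', hw', rfl⟩ he
    let P := ν (π w)
    haveI := totallyDisconnected_fiber_of_isIntegralHom ν P
    have hpre : _root_.IsPreconnected (W.ι ⁻¹' (Z' ∩ q ⁻¹' {P})) := by
      refine W.ι.isEmbedding.isInducing.isPreconnected_image.1 ?_
      rw [Set.image_preimage_eq_of_subset (fun x hx => by rw [Scheme.Opens.range_ι]; exact hsub hx.1)]
      exact hfib P
    have himg := hpre.image π π.continuous.continuousOn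
    have hmap : π '' (W.ι ⁻¹' (Z' ∩ q ⁻¹' {P})) ⊆ Set.range (ν.fiberι P) := by
      rintro _ ⟨v, hv, rfl⟩
      rw [Scheme.Hom.range_fiberι, Set.mem_preimage, hπν']
      exact hv.2
    have hpre' : _root_.IsPreconnected (ν.fiberι P ⁻¹' (π '' (W.ι ⁻¹' (Z' ∩ q ⁻¹' {P})))) := by
      refine (ν.fiberι P).isEmbedding.isInducing.isPreconnected_image.1 ?_
      rwa [Set.image_preimage_eq_of_subset hmap]
    have m1 : π w ∈ π '' (W.ι ⁻¹' (Z' ∩ q ⁻¹' {P})) := ⟨w, ⟨hw, (hπν' w).symm⟩, rfl⟩
    have m2 : π w' ∈ π '' (W.ι ⁻¹' (Z' ∩ q ⁻¹' {P})) := ⟨w', ⟨hw', ((hπν' w').symm.trans he.symm)⟩, rfl⟩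
    obtain ⟨c, hc'⟩ := hmap m1
    obtain ⟨d, hd⟩ := hmap m2
    have hcd : c = d := hpre'.subsingleton (by rw [Set.mem_preimage, hc']; exact m1) (by rw [Set.mem_preimage, hd]; exact m2)
    rw [← hc', ← hd, hcd]
  -- saturation
  have hsatS : ∀ w, π w ∈ S → w ∈ ZW := by
    rintro w ⟨w', hw', he⟩
    let P := q (W.ι w')
    obtain ⟨x, -, -, hxc⟩ := hc (a P) (hgen P)
    let g := W.ι ≫ pullback.fst f a
    have hpre : _root_.IsPreconnected (g '' (π ⁻¹' {π w})) :=
      (π.isConnected_preimage_singleton (π w)).isPreconnected.image g g.continuous.continuousOn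
    have hsubf : g '' (π ⁻¹' {π w}) ⊆ f ⁻¹' {a P} := by
      rintro _ ⟨v, hv, rfl⟩
      show f (g v) = a P
      rw [Scheme.Hom.comp_apply, hfq, ← hπν', Set.mem_singleton_iff.1 hv, ← he, hπν']
    have hw'c : g w' ∈ connectedComponentIn (f ⁻¹' {a P}) x :=
      hxc.le ⟨hw', show f (g w') = a P by rw [Scheme.Hom.comp_apply, hfq]⟩
    have hsubc : g '' (π ⁻¹' {π w}) ⊆ connectedComponentIn (f ⁻¹' {a P}) x := by
      rw [connectedComponentIn_eq hw'c]
      exact hpre.subset_connectedComponentIn ⟨w', he, rfl⟩ hsubf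
    exact (hxc.ge (hsubc ⟨w, rfl, rfl⟩)).1
  -- a point of `N ×_R N` over a point of `S` twice is on the diagonal
  have hdiag : ∀ Q : ↥(pullback ν ν), pullback.fst ν ν Q ∈ S → pullback.snd ν ν Q = pullback.fst ν ν Q →
      Q ∈ Set.range (pullback.diagonal ν) := by
    intro Q hQ hQQ
    let n := pullback.snd ν ν Q
    have hnS : n ∈ S := by show pullback.snd ν ν Q ∈ S; rw [hQQ]; exact hQ
    let j := (W.ι ≫ q).normalization.fromSpecResidueField n
    let K := (W.ι ≫ q).normalization.residueField n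
    let pM := pullback.fst ν (j ≫ ν)
    let μ := pullback.snd ν (j ≫ ν)
    haveI : IsIntegralHom μ := MorphismProperty.pullback_snd _ _ inferInstance
    haveI := totallyDisconnected_of_integral_over_field (K := K) μ
    let A : Set ↥(pullback ν (j ≫ ν)) := {m | pM m = n}
    have hA : A.Subsingleton := by
      let c : Spec K ⟶ Y := (j ≫ ν) ≫ a
      let θ : pullback f c ⟶ pullback f a := pullback.lift (pullback.fst f c) (pullback.snd f c ≫ j ≫ ν)
        (by rw [pullback.condition]; simp [c])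
      have hX : IsPullback θ (pullback.snd f c) q (j ≫ ν) := by
        refine IsPullback.of_right ?_ (pullback.lift_snd _ _ _) (IsPullback.of_hasPullback f a)
        rw [pullback.lift_fst]
        exact IsPullback.of_hasPullback f c
      let πK := pullback.snd π pM
      have h1 : IsPullback (pullback.fst π pM) (πK ≫ μ) (W.ι ≫ q) (j ≫ ν) := by
        exact ((IsPullback.of_hasPullback π pM).paste_vert (IsPullback.of_hasPullback ν (j ≫ ν))).of_iso
          (Iso.refl _) (Iso.refl _) (Iso.refl _) (Iso.refl _) (by simp) (by simp [πK, μ, pM]) (by simp [hπν]) (by simp)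
      let ρ : pullback π pM ⟶ pullback f c := hX.lift (pullback.fst π pM ≫ W.ι) (πK ≫ μ)
        (by rw [Category.assoc]; exact h1.w)
      have sqρ : IsPullback (pullback.fst π pM) ρ W.ι θ :=
        IsPullback.of_bot (by rw [hX.lift_snd]; exact h1) (hX.lift_fst _ _ _).symm hX
      haveI : IsOpenImmersion ρ := MorphismProperty.of_isPullback (P := @IsOpenImmersion) sqρ inferInstance
      have hθZ : ∀ u, pullback.fst f c u ∈ Z → θ u ∈ Z' := fun u hu => by
        show pullback.fst f a (θ u) ∈ Z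
        rw [← Scheme.Hom.comp_apply, pullback.lift_fst]
        exact hu
      have hrρ : pullback.fst f c ⁻¹' Z ⊆ Set.range ρ := fun u hu => by
        obtain ⟨v, hv⟩ : θ u ∈ Set.range W.ι := by rw [Scheme.Opens.range_ι]; exact hsub (hθZ u hu)
        obtain ⟨w, -, hw⟩ := Scheme.exists_preimage_of_isPullback sqρ v u hv
        exact ⟨w, hw⟩
      have hpc := isPreconnected_preimage_field f Z y hg K c (hgen (ν (j (IsLocalRing.closedPoint K))))
      have hG : _root_.IsPreconnected (ρ ⁻¹' (pullback.fst f c ⁻¹' Z)) := by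
        refine ρ.isEmbedding.isInducing.isPreconnected_image.1 ?_
        rwa [Set.image_preimage_eq_of_subset hrρ]
      have hρ : ∀ u, pullback.fst f c (ρ u) = pullback.fst f a (W.ι (pullback.fst π pM u)) := fun u => by
        have e : ρ ≫ pullback.fst f c = pullback.fst π pM ≫ W.ι ≫ pullback.fst f a := by
          rw [← pullback.lift_fst (f := f) (g := a) (pullback.fst f c) (pullback.snd f c ≫ j ≫ ν)]
          exact hX.lift_fst_assoc _ _ _ _
        exact congr($e u)
      have hπu : ∀ u, π (pullback.fst π pM u) = pM (πK u) := fun u => by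
        exact congr($(pullback.condition (f := π) (g := pM)) u)
      have hAeq : A = πK '' (ρ ⁻¹' (pullback.fst f c ⁻¹' Z)) := by
        refine Set.Subset.antisymm (fun m hm => ?_) ?_
        · obtain ⟨u, hu⟩ := πK.surjective m
          refine ⟨u, ?_, hu⟩
          show pullback.fst f c (ρ u) ∈ Z
          rw [hρ]
          refine hsatS _ ?_
          rw [hπu, hu, show pM m = n from hm]
          exact hnS
        · rintro _ ⟨u, hu, rfl⟩
          have hu' : pullback.fst π pM u ∈ ZW := by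
            show pullback.fst f a (W.ι (pullback.fst π pM u)) ∈ Z
            rw [← hρ]; exact hu
          refine hone _ ((hπu u) ▸ ⟨_, hu', rfl⟩) _ hnS ?_
          have := congr($(pullback.condition (f := ν) (g := j ≫ ν)) (πK u))
          refine this.trans ?_
          show ν (j (μ (πK u))) = ν n
          rw [Scheme.fromSpecResidueField_apply]
      rw [hAeq]
      exact (hG.image πK πK.continuous.continuousOn).subsingleton
    let mM : pullback ν (j ≫ ν) ⟶ pullback ν ν := pullback.lift pM (μ ≫ j)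
      (by rw [Category.assoc]; exact pullback.condition)
    have sqM : IsPullback mM μ (pullback.snd ν ν) j := by
      refine IsPullback.of_right ?_ (pullback.lift_snd _ _ _) (IsPullback.of_hasPullback ν ν)
      rw [pullback.lift_fst]
      exact IsPullback.of_hasPullback ν (j ≫ ν)
    obtain ⟨m, hm, -⟩ := Scheme.exists_preimage_of_isPullback sqM Q (IsLocalRing.closedPoint K)
      (Scheme.fromSpecResidueField_apply _ _).symm
    let d : Spec K ⟶ pullback ν (j ≫ ν) := pullback.lift j (𝟙 _) (by simp)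
    have hd : d ≫ mM = j ≫ pullback.diagonal ν := by
      apply pullback.hom_ext <;> simp [d, mM, pM, μ] <;> exact Category.id_comp _
    have hmA : m ∈ A := by
      show pM m = n
      rw [show pM m = pullback.fst ν ν (mM m) from congr($((pullback.lift_fst _ _ _ : mM ≫ pullback.fst ν ν = pM).symm) m), hm]
      exact hQQ.symm
    have hdA : d (IsLocalRing.closedPoint K) ∈ A := by
      show pM (d (IsLocalRing.closedPoint K)) = n
      rw [← Scheme.Hom.comp_apply, pullback.lift_fst, Scheme.fromSpecResidueField_apply]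
    exact ⟨j (IsLocalRing.closedPoint K), by
      rw [← hm, hA hmA hdA, ← Scheme.Hom.comp_apply, ← Scheme.Hom.comp_apply, hd]⟩
  -- `S` is closed
  have hSc : IsClosed S := by
    let b : (W.ι ≫ q).normalization ⟶ Y := ν ≫ a
    let θ : pullback f b ⟶ pullback f a := pullback.lift (pullback.fst f b) (pullback.snd f b ≫ ν)
      (by rw [pullback.condition]; simp [b])
    let ON : (pullback f b).Opens := θ ⁻¹ᵁ W
    let θ' : ON.toScheme ⟶ W.toScheme := IsOpenImmersion.lift W.ι (ON.ι ≫ θ) (by
      rintro _ ⟨p, rfl⟩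
      rw [Scheme.Opens.range_ι, Scheme.Hom.comp_apply]
      exact p.2)
    have hθ' : θ' ≫ W.ι = ON.ι ≫ θ := IsOpenImmersion.lift_fac _ _ _
    let ψ : ON.toScheme ⟶ pullback ν ν := pullback.lift (θ' ≫ π) (ON.ι ≫ pullback.snd f b) (by
      rw [Category.assoc, hπν, reassoc_of% hθ', pullback.lift_snd, Category.assoc])
    let Γ : Set ↥ON.toScheme := ψ ⁻¹' Set.range (pullback.diagonal ν)
    have hΓ : IsClosed Γ := (pullback.diagonal ν).isClosedEmbedding.isClosed_range.preimage ψ.continuous
    have hkey : ∀ p : ↥ON.toScheme, pullback.fst f b (ON.ι p) ∈ Z →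
        (p ∈ Γ ↔ pullback.snd f b (ON.ι p) ∈ S) := by
      intro p hp
      have hf1 : pullback.fst ν ν (ψ p) = π (θ' p) := by
        rw [← Scheme.Hom.comp_apply, pullback.lift_fst, Scheme.Hom.comp_apply]
      have hf2 : pullback.snd ν ν (ψ p) = pullback.snd f b (ON.ι p) := by
        rw [← Scheme.Hom.comp_apply, pullback.lift_snd, Scheme.Hom.comp_apply]
      have hS1 : pullback.fst ν ν (ψ p) ∈ S := by
        rw [hf1]
        refine ⟨θ' p, ?_, rfl⟩
        show pullback.fst f a (W.ι (θ' p)) ∈ Z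
        rw [← Scheme.Hom.comp_apply θ', hθ', Scheme.Hom.comp_apply, ← Scheme.Hom.comp_apply θ, pullback.lift_fst]
        exact hp
      constructor
      · rintro ⟨n, hn⟩
        have e1 : pullback.fst ν ν (ψ p) = n := by
          rw [← hn, ← Scheme.Hom.comp_apply, pullback.diagonal_fst]; rfl
        have e2 : pullback.snd ν ν (ψ p) = n := by
          rw [← hn, ← Scheme.Hom.comp_apply, pullback.diagonal_snd]; rfl
        rw [← hf2, e2, ← e1]
        exact hS1
      · intro hS2
        refine hdiag _ hS1 ?_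
        refine hone _ (hf2.symm ▸ hS2) _ hS1 ?_
        exact (congr($(pullback.condition (f := ν) (g := ν)) (ψ p))).symm
    have hEb : Sᶜ ⊆ b ⁻¹' (f '' Z) := fun n _ => by
      show b n ∈ f '' Z
      exact hsurjY (ν n)
    obtain ⟨V, hV, hVE⟩ := h3 _ b Sᶜ hEb ⟨ON.ι '' Γᶜ, ON.ι.isOpenEmbedding.isOpenMap _ hΓ.isOpen_compl, by
      ext u
      constructor
      · rintro ⟨⟨p, hp, rfl⟩, hu⟩
        exact ⟨fun h => hp ((hkey p hu).2 h), hu⟩
      · rintro ⟨hE, hu⟩
        have huW : θ u ∈ W := hsub (show pullback.fst f a (θ u) ∈ Z by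
          rw [← Scheme.Hom.comp_apply, pullback.lift_fst]; exact hu)
        exact ⟨⟨⟨u, huW⟩, fun h => hE ((hkey ⟨u, huW⟩ hu).1 h), rfl⟩, hu⟩⟩
    have e : Sᶜ = V := by
      rw [← hVE]
      exact Set.inter_eq_left.2 fun n _ => hsurjY (ν n)
    exact isOpen_compl_iff.1 (e ▸ hV)
  have e : Z' = W.ι '' (π ⁻¹' S) := by
    refine Set.Subset.antisymm (fun p hp => ?_) ?_
    · exact ⟨⟨p, hsub hp⟩, ⟨⟨p, hsub hp⟩, hp, rfl⟩, rfl⟩
    · rintro _ ⟨w, hw, rfl⟩; exact hsatS w hw
  show IsClosed Z'
  rw [e]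
  exact W.ι.isClosedEmbedding.isClosedMap _ (hSc.preimage π.continuous)

end Groth.Agent.Compactify
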