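import Groth.Agent.ConsPropLib.CoreProper
import Groth.Agent.S7395
import Groth.Agent.S0385

/-!
# Compactified covers

A separated scheme of finite type over an affine base receives finitely many proper morphisms,
jointly surjective, from schemes that are open in schemes proper over the base. This is what is
needed from Chow's lemma and Zariski's main theorem to split off proper parts.
-/

set_option autoImplicit false
set_option linter.style.haveILetI false
set_option backward.isDefEq.respectTransparency false
set_option backward.isDefEq.respectTransparency.types false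

open CategoryTheory CategoryTheory.Limits AlgebraicGeometry Topology

namespace Groth.Agent.Compactify

universe u

/-- A jointly surjective finite family of proper morphisms to `X` from opens of schemes proper over
`S`. -/
structure CompCover {X S : Scheme.{u}} (f : X ⟶ S) where
  ι : Type u
  fin : Finite ι
  Z : ι → Scheme.{u}
  W : ι → Scheme.{u}
  π : ∀ k, Z k ⟶ X
  j : ∀ k, Z k ⟶ W k
  q : ∀ k, W k ⟶ S
  proper_π : ∀ k, IsProper (π k)
  proper_q : ∀ k, IsProper (q k)
  open_j : ∀ k, IsOpenImmersion (j k)
  comm : ∀ k, j k ≫ q k = π k ≫ f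
  surj : ∀ x, ∃ (k : ι) (z : Z k), π k z = x

variable {X S : Scheme.{u}}

theorem nonempty_compCover_of_noetherian [IsAffine S] [IsNoetherian S] (f : X ⟶ S) [IsSeparated f]
    [LocallyOfFiniteType f] [QuasiCompact f] : Nonempty (CompCover f) := by
  obtain ⟨C⟩ := ConsPropLib.exists_chowCover f
  have h : ∀ k, ∃ (T : Scheme.{u}) (j : C.Z k ⟶ T) (π : T ⟶ C.P k),
      IsOpenImmersion j ∧ QuasiCompact j ∧ IsFinite π ∧ j ≫ π = C.p k := fun k => by
    haveI := C.proper_π k; haveI := C.proper_q k; haveI := C.mono_p k
    haveI : LocallyOfFiniteType (C.p k ≫ C.q k) := by rw [C.comm k]; infer_instance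
    haveI : QuasiCompact (C.p k ≫ C.q k) := by rw [C.comm k]; infer_instance
    haveI : LocallyOfFiniteType (C.p k) := locallyOfFiniteType_of_comp (C.p k) (C.q k)
    haveI : QuasiCompact (C.p k) := QuasiCompact.of_comp (C.p k) (C.q k)
    haveI : CompactSpace (C.P k) := QuasiCompact.compactSpace_of_compactSpace (C.q k)
    haveI : QuasiSeparatedSpace (C.P k) := quasiSeparatedSpace_of_quasiSeparated (C.q k)
    haveI : LocallyQuasiFinite (C.p k) := locallyQuasiFinite_iff_finite_preimage_singleton.2 fun y =>
      Set.Subsingleton.finite fun a ha b hb => (C.p k).injective (ha.trans hb.symm)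
    exact S0385.result (C.p k)
  choose T j π hj hjq hπ hjπ using h
  exact ⟨{
    ι := C.ι
    fin := C.fin
    Z := C.Z
    W := T
    π := C.π
    j := j
    q := fun k => π k ≫ C.q k
    proper_π := C.proper_π
    proper_q := fun k => by haveI := C.proper_q k; haveI := hπ k; infer_instance
    open_j := hj
    comm := fun k => by rw [reassoc_of% hjπ k, C.comm k]
    surj := C.surj }⟩

/-- Base change of a compactified cover. -/
noncomputable def CompCover.baseChange {f : X ⟶ S} (C : CompCover f) {X' S' : Scheme.{u}} {a : X' ⟶ X}
    {f' : X' ⟶ S'} {φ : S' ⟶ S} (sq : IsPullback a f' f φ) : CompCover f' where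
  ι := C.ι
  fin := C.fin
  Z k := pullback (C.π k) a
  W k := pullback (C.q k) φ
  π k := pullback.snd (C.π k) a
  j k := pullback.lift (pullback.fst (C.π k) a ≫ C.j k) (pullback.snd (C.π k) a ≫ f') (by
    rw [Category.assoc, C.comm k, ← Category.assoc, pullback.condition, Category.assoc, Category.assoc, sq.w])
  q k := pullback.snd (C.q k) φ
  proper_π k := by haveI := C.proper_π k; infer_instance
  proper_q k := by haveI := C.proper_q k; infer_instance
  open_j k := by
    have h1 : IsPullback (pullback.fst (C.π k) a) (pullback.snd (C.π k) a ≫ f') (C.π k ≫ f) φ :=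
      (IsPullback.of_hasPullback (C.π k) a).paste_vert sq
    rw [← C.comm k] at h1
    haveI := C.open_j k
    refine MorphismProperty.of_isPullback (P := @IsOpenImmersion)
      (IsPullback.of_bot ?_ (pullback.lift_fst _ _ _).symm (IsPullback.of_hasPullback (C.q k) φ)) (C.open_j k)
    rwa [pullback.lift_snd]
  comm k := pullback.lift_snd _ _ _
  surj x := by
    obtain ⟨k, z, hz⟩ := C.surj (a x)
    obtain ⟨w, -, hw⟩ := Scheme.Pullback.exists_preimage_pullback z x hz
    exact ⟨k, w, hw⟩

/-- The compactified cover induced on a closed subscheme. -/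
noncomputable def CompCover.restrict {X' : Scheme.{u}} (i : X' ⟶ X) [IsClosedImmersion i] {f : X ⟶ S}
    [CompactSpace S] [QuasiSeparatedSpace S] [IsSeparated f] [QuasiCompact f]
    (C : CompCover f) : CompCover (i ≫ f) where
  ι := C.ι
  fin := C.fin
  Z k := pullback (C.π k) i
  W k := (pullback.fst (C.π k) i ≫ C.j k).image
  π k := pullback.snd (C.π k) i
  j k := (pullback.fst (C.π k) i ≫ C.j k).toImage
  q k := (pullback.fst (C.π k) i ≫ C.j k).imageι ≫ C.q k
  proper_π k := by haveI := C.proper_π k; infer_instance
  proper_q k := by haveI := C.proper_q k; infer_instance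
  open_j k := by
    haveI := C.open_j k
    haveI := C.proper_π k; haveI := C.proper_q k
    haveI : QuasiCompact (C.j k ≫ C.q k) := by rw [C.comm k]; infer_instance
    haveI : QuasiCompact (C.j k) := QuasiCompact.of_comp (C.j k) (C.q k)
    infer_instance
  comm k := by
    rw [Scheme.Hom.toImage_imageι_assoc, Category.assoc, C.comm k, ← Category.assoc, pullback.condition,
      Category.assoc]
  surj x := by
    obtain ⟨k, z, hz⟩ := C.surj (i x)
    obtain ⟨w, -, hw⟩ := Scheme.Pullback.exists_preimage_pullback z x hz
    exact ⟨k, w, hw⟩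

/-- Separated schemes of finite type over an affine scheme have compactified covers. -/
theorem nonempty_compCover [IsAffine S] (f : X ⟶ S) [IsSeparated f]
    [LocallyOfFiniteType f] [QuasiCompact f] : Nonempty (CompCover f) := by
  haveI : QuasiSeparatedSpace S := inferInstance
  obtain ⟨X', f', i, hs, hp, hq, hi, rfl⟩ := S7395.result f
  haveI := hs; haveI := hp; haveI := hq; haveI := hi
  obtain ⟨S₁, X₁, ρ, f₁, q, hN, hA, hft, hqc, hsep, sq⟩ := ConsPropLib.exists_separated_model f'
  haveI := hN; haveI := hA; haveI := hft; haveI := hqc; haveI := hsep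
  obtain ⟨C⟩ := nonempty_compCover_of_noetherian f₁
  exact ⟨(C.baseChange sq).restrict i⟩

end Groth.Agent.Compactify
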