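import Groth.Agent.Compactify.HensNhd

/-!
# Properness of flat morphisms near a proper fibre
-/

set_option autoImplicit false
set_option linter.style.haveILetI false
set_option backward.isDefEq.respectTransparency false
set_option backward.isDefEq.respectTransparency.types false

open CategoryTheory CategoryTheory.Limits AlgebraicGeometry Topology

namespace Groth.Agent.Compactify

universe u

/-- A flat separated morphism of finite type with connected fibres over the maximal points is proper
near a nonempty proper fibre. -/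
theorem exists_nhd_isProper_of_flat {X S : Scheme.{u}} [IsLocallyNoetherian S] (f : X ⟶ S)
    [Flat f] [IsSeparated f] [LocallyOfFiniteType f] [QuasiCompact f]
    (hgen : ∀ η : S, (∀ η' : S, η' ⤳ η → η' = η) → Nonempty ↥(f.fiber η) →
      GeometricallyConnected (f.fiberToSpecResidueField η))
    (s : S) [Nonempty ↥(f.fiber s)] (hs : IsProper (f.fiberToSpecResidueField s)) :
    ∃ U : S.Opens, s ∈ U ∧ IsProper (f ∣_ U) := by
  obtain ⟨R, _, V, φ, hV, hφ, hy0⟩ := exists_henselian_nhd s
  haveI := hφ
  let a : Spec R ⟶ S := φ ≫ V.ι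
  have ha : a (IsLocalRing.closedPoint R) = s := (Scheme.Hom.comp_apply _ _ _).trans hy0
  haveI : IsProper (f.fiberToSpecResidueField (a (IsLocalRing.closedPoint R))) := by rw [ha]; exact hs
  let g := pullback.snd f a
  haveI : Flat g := MorphismProperty.pullback_snd _ _ ‹_›
  obtain ⟨T, t, ht, hr⟩ := isProper_closedFibre f a
  haveI : IsProper (t ≫ g) := ht
  obtain ⟨W, hWc, hWp, hW⟩ := exists_clopen_proper (IsLocalRing.maximalIdeal R) g t ⊤
    (by rw [hr, TopologicalSpace.Opens.coe_top, Set.univ_inter]; rfl)
  -- a point of the closed fibre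
  obtain ⟨x₀, hx₀W, hx₀⟩ : ∃ x, x ∈ W ∧ g x = IsLocalRing.closedPoint R := by
    obtain ⟨p⟩ := ‹Nonempty ↥(f.fiber s)›
    have hp : f (f.fiberι s p) = a (IsLocalRing.closedPoint R) := by
      rw [ha]
      have := Set.mem_range_self (f := f.fiberι s) p
      rw [Scheme.Hom.range_fiberι] at this
      exact this
    obtain ⟨x, -, hx⟩ := Scheme.Pullback.exists_preimage_pullback _ _ hp
    refine ⟨x, (hW.ge (hr.ge ?_)).1, hx⟩
    rw [Set.mem_preimage]
    show g x ∈ _
    rw [show g x = IsLocalRing.closedPoint R from hx]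
    exact (PrimeSpectrum.mem_zeroLocus _ _).2 (Set.Subset.refl _)
  -- fibres over minimal points lie in `W`
  have hmin : ∀ P : Spec R, (∀ P' : Spec R, P' ⤳ P → P' = P) → ∀ x, g x = P → x ∈ W := by
    intro P hP x hx
    have hη : ∀ η' : S, η' ⤳ a P → η' = a P := fun η' h => by
      obtain ⟨P', hP', rfl⟩ := Flat.generalizingMap a h
      rw [hP P' hP']
    haveI : Nonempty ↥(f.fiber (a P)) := by
      have : pullback.fst f a x ∈ Set.range (f.fiberι (a P)) := by
        rw [Scheme.Hom.range_fiberι]
        show f (pullback.fst f a x) = a P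
        rw [← Scheme.Hom.comp_apply, pullback.condition, Scheme.Hom.comp_apply, ← hx]
      exact ⟨this.choose⟩
    haveI : GeometricallyConnected (f.fiberToSpecResidueField (a P)) := hgen _ hη ‹_›
    obtain ⟨x', hx', hgx'⟩ := Flat.generalizingMap g (show P ⤳ g x₀ by
      rw [hx₀]; exact IsLocalRing.specializes_closedPoint P)
    have hpre : _root_.IsPreconnected (g ⁻¹' {P}) := by
      let ρ : Spec (CommRingCat.of ((Spec R).residueField P)) ⟶ Spec R := (Spec R).fromSpecResidueField P
      rw [← g.range_fiberι P]
      haveI : GeometricallyConnected (g.fiberToSpecResidueField P) := by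
        let τ := a.residueFieldMap P
        have h1 := (IsPullback.of_hasPullback g ((Spec R).fromSpecResidueField P)).paste_horiz
          (IsPullback.of_hasPullback f a)
        rw [← Scheme.Hom.SpecMap_residueFieldMap_fromSpecResidueField a P] at h1
        haveI : GeometricallyConnected (pullback.snd (f.fiberToSpecResidueField (a P)) (Spec.map τ)) := inferInstance
        exact MorLib.Desc.of_two @GeometricallyConnected
          ((IsPullback.of_hasPullback (f.fiberToSpecResidueField (a P)) (Spec.map τ)).paste_horiz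
            (IsPullback.of_hasPullback f (S.fromSpecResidueField (a P)))) h1 inferInstance
      haveI : ConnectedSpace ↥(g.fiber P) :=
        GeometricallyConnected.connectedSpace_of_subsingleton (g.fiberToSpecResidueField P)
      exact isPreconnected_range (g.fiberι P).continuous
    exact hpre.subset_isClopen ⟨hWc, W.2⟩ ⟨x', hgx', hx'.mem_open W.2 hx₀W⟩ hx
  have hWtop : W = ⊤ := by
    refine eq_top_iff.2 fun x _ => ?_
    obtain ⟨p, hp, hle⟩ := Ideal.exists_minimalPrimes_le (I := (⊥ : Ideal R)) (J := (g x).asIdeal) bot_le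
    let P : Spec R := ⟨p, hp.1.1⟩
    obtain ⟨x', hx', hgx'⟩ := Flat.generalizingMap g (show P ⤳ g x from
      (PrimeSpectrum.le_iff_specializes P (g x)).1 hle)
    exact hx'.mem_closed hWc (hmin P (fun P' h => PrimeSpectrum.ext (le_antisymm
      ((PrimeSpectrum.le_iff_specializes P' P).2 h)
      (hp.2 ⟨P'.isPrime, bot_le⟩ ((PrimeSpectrum.le_iff_specializes P' P).2 h)))) x' hgx')
  subst hWtop
  haveI : IsProper g := by
    have e : g = (Scheme.topIso _).inv ≫ ((⊤ : Scheme.Opens _).ι ≫ g) := by
      rw [← Category.assoc, show (Scheme.topIso _).inv ≫ Scheme.Opens.ι _ = 𝟙 _ from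
        (Scheme.topIso _).inv_hom_id, Category.id_comp]
    rw [e]
    infer_instance
  obtain ⟨U, hU, hUp⟩ := exists_nhd_isProper f hV φ (φ (IsLocalRing.closedPoint R)) ⟨_, rfl⟩
  exact ⟨U, hy0 ▸ hU, hUp⟩

end Groth.Agent.Compactify
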