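import Groth.Agent.Compactify.Near
import Groth.Agent.BrnchLib.Compl

/-!
# Flat henselian neighbourhoods of a point
-/

set_option autoImplicit false
set_option linter.style.haveILetI false
set_option backward.isDefEq.respectTransparency false
set_option backward.isDefEq.respectTransparency.types false

open CategoryTheory CategoryTheory.Limits AlgebraicGeometry Topology

namespace Groth.Agent.Compactify

universe u

/-- A point of a locally Noetherian scheme is the image of the closed point of a Noetherian henselian
local ring mapping flatly to an affine neighbourhood. -/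
theorem exists_henselian_nhd {Y : Scheme.{u}} [IsLocallyNoetherian Y] (y : Y) :
    ∃ (R : CommRingCat.{u}) (_ : HenselianLocalRing R) (V : Y.Opens)
      (φ : Spec R ⟶ V.toScheme), IsAffineOpen V ∧ Flat φ ∧
      V.ι (φ (IsLocalRing.closedPoint R)) = y := by
  obtain ⟨_, ⟨V, hV, rfl⟩, hyV, -⟩ :=
    Y.isBasis_affineOpens.exists_subset_of_mem_open (Set.mem_univ y) isOpen_univ
  haveI : IsNoetherianRing Γ(Y, V) := IsLocallyNoetherian.component_noetherian ⟨V, hV⟩
  let p := hV.primeIdealOf ⟨y, hyV⟩
  let O := Localization.AtPrime p.asIdeal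
  let R := AdicCompletion (IsLocalRing.maximalIdeal O) O
  haveI : HenselianLocalRing R := BrnchLib.henselianLocalRing_completion O
  haveI : Module.Flat O R := AdicCompletion.flat_of_isNoetherian _
  haveI : Module.Flat Γ(Y, V) O := IsLocalization.flat O p.asIdeal.primeCompl
  haveI : Module.Flat Γ(Y, V) R := Module.Flat.trans Γ(Y, V) O R
  let ψ : Spec (CommRingCat.of R) ⟶ Spec Γ(Y, V) := Spec.map (CommRingCat.ofHom (algebraMap Γ(Y, V) R))
  haveI : Flat ψ := by
    rw [HasRingHomProperty.Spec_iff (P := @Flat)]
    exact RingHom.flat_algebraMap_iff.2 inferInstance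
  refine ⟨CommRingCat.of R, ‹_›, V, ψ ≫ hV.isoSpec.inv, hV, inferInstance, ?_⟩
  rw [← Scheme.Hom.comp_apply, Category.assoc, IsAffineOpen.isoSpec_inv_ι, Scheme.Hom.comp_apply]
  have h1 : ψ (IsLocalRing.closedPoint R) = p := by
    refine PrimeSpectrum.ext ?_
    show Ideal.comap (algebraMap Γ(Y, V) R) (IsLocalRing.maximalIdeal R) = p.asIdeal
    rw [IsScalarTower.algebraMap_eq Γ(Y, V) O R, ← Ideal.comap_comap,
      show Ideal.comap (algebraMap O R) (IsLocalRing.maximalIdeal R) = IsLocalRing.maximalIdeal O from
        IsLocalRing.maximalIdeal_comap _]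
    exact Localization.AtPrime.under_maximalIdeal (I := p.asIdeal)
  show hV.fromSpec (ψ (IsLocalRing.closedPoint R)) = y
  rw [h1]
  exact hV.fromSpec_primeIdealOf ⟨y, hyV⟩

/-- A base change to a field has proper structure map if the fibre over its image is proper. -/
theorem isProper_pullback_snd_field {X Y : Scheme.{u}} (f : X ⟶ Y) {K : Type u} [Field K]
    (g : Spec (CommRingCat.of K) ⟶ Y) (y : Y) (hy : g (IsLocalRing.closedPoint K) = y)
    [hp : IsProper (f.fiberToSpecResidueField y)] : IsProper (pullback.snd f g) := by
  obtain ⟨⟨y', τ⟩, hτ⟩ : ∃ p : Σ x : Y, Y.residueField x ⟶ CommRingCat.of K,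
      Spec.map p.2 ≫ Y.fromSpecResidueField p.1 = g :=
    ⟨Scheme.SpecToEquivOfField K Y g, (Scheme.SpecToEquivOfField K Y).symm_apply_apply g⟩
  have hy' : y' = y := by
    rw [← hy, ← hτ, Scheme.Hom.comp_apply, Scheme.fromSpecResidueField_apply]
  subst hτ
  subst hy'
  haveI : IsProper (pullback.snd (f.fiberToSpecResidueField y') (Spec.map τ)) :=
    MorphismProperty.pullback_snd _ _ hp
  exact MorLib.Desc.of_two @IsProper
    ((IsPullback.of_hasPullback (f.fiberToSpecResidueField y') (Spec.map τ)).paste_horiz
      (IsPullback.of_hasPullback f (Y.fromSpecResidueField y')))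
    (IsPullback.of_hasPullback f _) inferInstance

/-- Over the closed point, a base change has proper fibre if the original fibre is proper. -/
theorem isProper_closedFibre {X Y : Scheme.{u}} (f : X ⟶ Y) {R : CommRingCat.{u}} [IsLocalRing R]
    (a : Spec R ⟶ Y) [IsProper (f.fiberToSpecResidueField (a (IsLocalRing.closedPoint R)))] :
    ∃ (T : Scheme.{u}) (t : T ⟶ pullback f a), IsProper (t ≫ pullback.snd f a) ∧
      Set.range t = pullback.snd f a ⁻¹' PrimeSpectrum.zeroLocus (IsLocalRing.maximalIdeal R : Set R) := by
  let k := CommRingCat.of (IsLocalRing.ResidueField R)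
  let i : Spec k ⟶ Spec R := Spec.map (CommRingCat.ofHom (IsLocalRing.residue R))
  haveI : IsClosedImmersion i := IsClosedImmersion.spec_of_surjective _ IsLocalRing.residue_surjective
  refine ⟨pullback (pullback.snd f a) i, pullback.fst _ _, ?_, ?_⟩
  · haveI : IsProper (pullback.snd f (i ≫ a)) := by
      refine isProper_pullback_snd_field f (K := IsLocalRing.ResidueField R) (i ≫ a)
        (a (IsLocalRing.closedPoint R)) ?_
      have hiz : i (IsLocalRing.closedPoint (IsLocalRing.ResidueField R)) = IsLocalRing.closedPoint R :=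
        IsLocalRing.PrimeSpectrum.comap_residue R _
      rw [Scheme.Hom.comp_apply]
      exact congrArg _ hiz
    haveI : IsProper (pullback.snd (pullback.snd f a) i) :=
      MorLib.Desc.of_two @IsProper (IsPullback.of_hasPullback f (i ≫ a))
        ((IsPullback.of_hasPullback (pullback.snd f a) i).paste_horiz (IsPullback.of_hasPullback f a)) inferInstance
    rw [pullback.condition]
    infer_instance
  · rw [Scheme.Pullback.range_fst]
    congr 1
    show Set.range (PrimeSpectrum.comap (IsLocalRing.residue R)) = _
    rw [range_comap_of_surjective _ _ IsLocalRing.residue_surjective, IsLocalRing.ker_residue]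

end Groth.Agent.Compactify
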