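import Groth.Agent.Compactify.Split
import Groth.Agent.FDescent.QuasiFlat

/-!
# Properness near a point from properness after a flat base change
-/

set_option autoImplicit false
set_option linter.style.haveILetI false
set_option backward.isDefEq.respectTransparency false
set_option backward.isDefEq.respectTransparency.types false

open CategoryTheory CategoryTheory.Limits AlgebraicGeometry Topology

namespace Groth.Agent.Compactify

universe u

/-- If a separated morphism of finite type becomes proper after a flat base change meeting `y`, it is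
proper over a neighbourhood of `y`. -/
theorem exists_nhd_isProper_affine {X S S' : Scheme.{u}} [IsAffine S] (f : X ⟶ S) [IsSeparated f]
    [LocallyOfFiniteType f] [QuasiCompact f] (φ : S' ⟶ S) [Flat φ] (y : S) (hy : y ∈ Set.range φ)
    [IsProper (pullback.snd f φ)] : ∃ U : S.Opens, y ∈ U ∧ IsProper (f ∣_ U) := by
  obtain ⟨C⟩ := nonempty_compCover f
  haveI := C.fin
  haveI := C.proper_π; haveI := C.proper_q; haveI := C.open_j
  haveI : ∀ k, QuasiCompact (C.j k) := fun k => by
    haveI : QuasiCompact (C.j k ≫ C.q k) := by rw [C.comm k]; infer_instance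
    exact QuasiCompact.of_comp (C.j k) (C.q k)
  let B : ∀ k, Set (C.W k) := fun k => closure (Set.range (C.j k)) \ Set.range (C.j k)
  have hB : ∀ k, y ∉ C.q k '' B k := by
    rintro k ⟨w, ⟨hwc, hwn⟩, hwy⟩
    obtain ⟨s, hs⟩ := hy
    obtain ⟨w', hw', -⟩ := Scheme.Pullback.exists_preimage_pullback (f := C.q k) (g := φ) w s (hwy.trans hs.symm)
    obtain ⟨z, hz⟩ := FDescent.exists_specializes_of_mem_closure_range (C.j k) hwc
    obtain ⟨v', hv', hv⟩ := Flat.generalizingMap (pullback.fst (C.q k) φ) (hz.trans (specializes_of_eq hw'.symm))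
    let C' := C.baseChange (IsPullback.of_hasPullback f φ)
    haveI : IsProper (C'.j k ≫ C'.q k) := by
      haveI := C'.proper_π k
      rw [C'.comm k]; infer_instance
    haveI := C'.proper_q k
    haveI : IsProper (C'.j k) := IsProper.of_comp (C'.j k) (C'.q k)
    have hsq : IsPullback (pullback.fst (C.π k) (pullback.fst f φ)) (C'.j k) (C.j k) (pullback.fst (C.q k) φ) := by
      have h1 : IsPullback (pullback.fst (C.π k) (pullback.fst f φ))
          (pullback.snd (C.π k) (pullback.fst f φ) ≫ pullback.snd f φ) (C.π k ≫ f) φ :=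
        (IsPullback.of_hasPullback (C.π k) (pullback.fst f φ)).paste_vert (IsPullback.of_hasPullback f φ)
      rw [← C.comm k] at h1
      refine IsPullback.of_bot ?_ (pullback.lift_fst _ _ _).symm (IsPullback.of_hasPullback (C.q k) φ)
      rw [show C'.j k ≫ pullback.snd (C.q k) φ = _ from pullback.lift_snd _ _ _]
      exact h1
    obtain ⟨t, -, ht⟩ := Scheme.exists_preimage_of_isPullback hsq z v' hv.symm
    have hmem : w' ∈ Set.range (C'.j k) :=
      (C'.j k).isClosedMap.isClosed_range.stableUnderSpecialization hv' ⟨t, ht⟩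
    obtain ⟨t', ht'⟩ := hmem
    refine hwn ⟨pullback.fst (C.π k) (pullback.fst f φ) t', ?_⟩
    exact (Scheme.Hom.comp_apply _ _ _).symm.trans (congr($(hsq.w) t').trans
      ((Scheme.Hom.comp_apply _ _ _).trans ((congrArg _ ht').trans hw')))
  let T : Set S := ⋃ k, C.q k '' B k
  have hT : IsClosed T := isClosed_iUnion_of_finite fun k =>
    (C.q k).isClosedMap _ (isClosed_closure.sdiff (C.j k).isOpenEmbedding.isOpen_range)
  let U : S.Opens := ⟨Tᶜ, hT.isOpen_compl⟩
  refine ⟨U, fun h => ?_, ?_⟩
  · obtain ⟨k, hk⟩ := Set.mem_iUnion.1 h; exact hB k hk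
  haveI : ∀ k, UniversallyClosed ((C.π k ≫ f) ∣_ U) := fun k => by
    rw [← C.comm k, morphismRestrict_comp]
    haveI : IsClosedImmersion (C.j k ∣_ (C.q k ⁻¹ᵁ U)) := by
      refine IsClosedImmersion.of_isPreimmersion _ ?_
      have e : Set.range (C.j k ∣_ (C.q k ⁻¹ᵁ U)) = Subtype.val ⁻¹' closure (Set.range (C.j k)) := by
        ext ⟨w, hw⟩
        constructor
        · rintro ⟨⟨z, hz⟩, hzw⟩
          exact subset_closure ⟨z, (morphismRestrict_base_coe (C.j k) _ ⟨z, hz⟩).symm.trans (congrArg Subtype.val hzw)⟩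
        · intro h
          by_cases hr : w ∈ Set.range (C.j k)
          · obtain ⟨z, rfl⟩ := hr
            exact ⟨⟨z, hw⟩, Subtype.ext (morphismRestrict_base_coe (C.j k) (C.q k ⁻¹ᵁ U) ⟨z, hw⟩)⟩
          · exact absurd (Set.mem_iUnion.2 ⟨k, Set.mem_image_of_mem _ (show w ∈ B k from ⟨h, hr⟩)⟩ : C.q k w ∈ T) hw
      rw [e]
      exact isClosed_closure.preimage continuous_subtype_val
    infer_instance
  haveI : IsProper (f ∣_ U) := by
    haveI : UniversallyClosed (f ∣_ U) := by
      haveI : ∀ k, UniversallyClosed (C.π k ∣_ (f ⁻¹ᵁ U) ≫ f ∣_ U) := fun k => by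
        rw [← morphismRestrict_comp]
        infer_instance
      refine ConsPropLib.universallyClosed_of_jointly_surjective _ (fun k => C.π k ∣_ (f ⁻¹ᵁ U)) fun x => ?_
      obtain ⟨k, z, hz⟩ := C.surj x.1
      exact ⟨k, ⟨z, show C.π k z ∈ f ⁻¹ᵁ U by rw [hz]; exact x.2⟩,
        Subtype.ext ((morphismRestrict_base_coe (C.π k) _ _).trans hz)⟩
    exact ⟨⟩
  assumption

/-- The same over an arbitrary base. -/
theorem exists_nhd_isProper {X S S' : Scheme.{u}} (f : X ⟶ S) [IsSeparated f]
    [LocallyOfFiniteType f] [QuasiCompact f] {V : S.Opens} (hV : IsAffineOpen V) (φ : S' ⟶ V.toScheme) [Flat φ]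
    (y : V.toScheme) (hy : y ∈ Set.range φ) [IsProper (pullback.snd f (φ ≫ V.ι))] :
    ∃ U : S.Opens, y.1 ∈ U ∧ IsProper (f ∣_ U) := by
  haveI : IsAffine V.toScheme := hV
  haveI : IsSeparated (f ∣_ V) := MorphismProperty.of_isPullback (isPullback_morphismRestrict f V).flip inferInstance
  haveI : QuasiCompact (f ∣_ V) := MorphismProperty.of_isPullback (isPullback_morphismRestrict f V).flip inferInstance
  haveI : IsProper (pullback.snd (f ∣_ V) φ) := by
    exact MorLib.Desc.of_two @IsProper (IsPullback.of_hasPullback f (φ ≫ V.ι))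
      ((IsPullback.of_hasPullback (f ∣_ V) φ).paste_horiz (isPullback_morphismRestrict f V).flip) ‹_›
  obtain ⟨U, hyU, hU⟩ := exists_nhd_isProper_affine (f ∣_ V) φ y hy
  refine ⟨V.ι ''ᵁ U, ⟨y, hyU, rfl⟩, ?_⟩
  exact (MorphismProperty.arrow_mk_iso_iff @IsProper (morphismRestrictRestrict f V U)).1 hU

end Groth.Agent.Compactify
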