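import Groth.Agent.FibDim.Basic
import Mathlib.AlgebraicGeometry.Morphisms.UniversallyClosed

/-!
# Fibre dimensions of proper morphisms go up under specialization
-/

set_option autoImplicit false
set_option linter.style.haveILetI false
set_option backward.isDefEq.respectTransparency false
set_option backward.isDefEq.respectTransparency.types false

open CategoryTheory AlgebraicGeometry Topology

namespace Groth.Agent.Compactify

universe u

theorem dim_fiber_le_of_specializes {J U : Scheme.{u}} (p : J ⟶ U) [LocallyOfFiniteType p] [UniversallyClosed p]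
    {z w : U} (h : z ⤳ w) : topologicalKrullDim ↥(p.fiber z) ≤ topologicalKrullDim ↥(p.fiber w) := by
  have key : ∀ n : ℕ, (n : WithBot ℕ∞) ≤ topologicalKrullDim ↥(p.fiber z) →
      (n : WithBot ℕ∞) ≤ topologicalKrullDim ↥(p.fiber w) := by
    intro n hn
    obtain ⟨x, hx, hrd⟩ := (FibDim.le_topologicalKrullDim_fiber_iff p z n).1 hn
    have hxF : (n : WithBot ℕ∞) ≤ FlatMor.fibreDimAt p x :=
      le_trans (by exact_mod_cast hrd) (FibDim.rd_le_fibreDimAt p (specializes_refl x) rfl)
    obtain ⟨x', hx', hxw⟩ := (p.isClosedMap _ (FibDim.isClosed_le_fibreDimAt p n)).stableUnderSpecialization h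
      ⟨x, hxF, hx⟩
    obtain ⟨v, -, hv, he, -⟩ := FibDim.exists_fibreDimAt_eq p x'
    refine (FibDim.le_topologicalKrullDim_fiber_iff p w n).2 ⟨v, hv.trans hxw, ?_⟩
    rw [Set.mem_setOf_eq, he] at hx'
    exact_mod_cast hx'
  generalize hd : topologicalKrullDim ↥(p.fiber z) = d at key
  induction d with
  | bot => exact bot_le
  | coe d =>
    induction d with
    | top =>
      refine le_of_eq ?_
      by_contra hne
      generalize topologicalKrullDim ↥(p.fiber w) = e at key hne
      induction e with
      | bot =>
        have h0 : ((0 : ℕ) : WithBot ℕ∞) ≤ ⊥ := key 0 (WithBot.coe_le_coe.2 le_top)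
        exact absurd (le_bot_iff.1 h0) (WithBot.natCast_ne_bot 0)
      | coe e =>
        induction e with
        | top => exact hne rfl
        | coe e =>
          have h0 : ((e + 1 : ℕ) : WithBot ℕ∞) ≤ ((e : ℕ∞) : WithBot ℕ∞) := key (e + 1) (WithBot.coe_le_coe.2 le_top)
          norm_cast at h0
          omega
    | coe d => exact key d le_rfl

end Groth.Agent.Compactify
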