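import Groth.Agent.Compactify.SectStein
import Groth.Agent.Compactify.Submersive
import Groth.Agent.GeomLoci.Constructible
import Groth.Agent.ProConsLib.Image
import Groth.Agent.FlatDvrVC5.SchemePoint
import Groth.Agent.S1324

/-!
# The components along a section are proper near a point where the component is proper
-/

set_option autoImplicit false
set_option linter.style.haveILetI false
set_option backward.isDefEq.respectTransparency false
set_option backward.isDefEq.respectTransparency.types false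

open CategoryTheory CategoryTheory.Limits AlgebraicGeometry Topology

namespace Groth.Agent.Compactify

universe u

variable {X Y : Scheme.{u}}

/-- A proper scheme over a residue field mapping to `X` gives, over a local base, a scheme proper
over the base. -/
theorem exists_closedFibre_part (f : X ⟶ Y) {R : CommRingCat.{u}} [IsLocalRing R] (a : Spec R ⟶ Y) (y : Y)
    (hay : a (IsLocalRing.closedPoint R) = y) {T₀ : Scheme.{u}} (s : T₀ ⟶ X) (q₀ : T₀ ⟶ Spec (Y.residueField y))
    [IsProper q₀] (hs : s ≫ f = q₀ ≫ Y.fromSpecResidueField y) :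
    ∃ (T : Scheme.{u}) (t : T ⟶ pullback f a), IsProper (t ≫ pullback.snd f a) ∧
      Set.range t = pullback.fst f a ⁻¹' Set.range s ∩
        pullback.snd f a ⁻¹' PrimeSpectrum.zeroLocus (IsLocalRing.maximalIdeal R : Set R) := by
  let k := CommRingCat.of (IsLocalRing.ResidueField R)
  let i : Spec k ⟶ Spec R := Spec.map (CommRingCat.ofHom (IsLocalRing.residue R))
  haveI : IsClosedImmersion i := IsClosedImmersion.spec_of_surjective _ IsLocalRing.residue_surjective
  let c := pullback.fst (pullback.snd f a) i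
  refine ⟨pullback s (c ≫ pullback.fst f a), pullback.snd _ _ ≫ c, ?_, ?_⟩
  · haveI : IsProper ((s ≫ f).fiberToSpecResidueField y) := by
      have h1 : IsPullback (𝟙 T₀) q₀ (s ≫ f) (Y.fromSpecResidueField y) := by
        have h0 : IsPullback (𝟙 T₀) q₀ q₀ (𝟙 _) := IsPullback.of_horiz_isIso ⟨by simp⟩
        have := FlatDvrVC5.isPullback_comp_mono (Y.fromSpecResidueField y) h0
        rw [Category.id_comp, ← hs] at this
        exact this
      exact MorLib.Desc.of_two @IsProper h1 (IsPullback.of_hasPullback (s ≫ f) (Y.fromSpecResidueField y)) ‹IsProper q₀›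
    haveI : IsProper (pullback.snd (s ≫ f) (i ≫ a)) := by
      refine isProper_pullback_snd_field (s ≫ f) (K := IsLocalRing.ResidueField R) (i ≫ a) y ?_
      have hiz : i (IsLocalRing.closedPoint (IsLocalRing.ResidueField R)) = IsLocalRing.closedPoint R :=
        IsLocalRing.PrimeSpectrum.comap_residue R _
      rw [Scheme.Hom.comp_apply]
      exact (congrArg _ hiz).trans hay
    haveI : IsProper (pullback.snd s (c ≫ pullback.fst f a) ≫ pullback.snd (pullback.snd f a) i) :=
      MorLib.Desc.of_two @IsProper (IsPullback.of_hasPullback (s ≫ f) (i ≫ a))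
        ((IsPullback.of_hasPullback s (c ≫ pullback.fst f a)).paste_vert
          ((IsPullback.of_hasPullback (pullback.snd f a) i).paste_horiz (IsPullback.of_hasPullback f a))) inferInstance
    rw [Category.assoc, pullback.condition, ← Category.assoc]
    infer_instance
  · rw [Scheme.Hom.comp_base, TopCat.coe_comp, Set.range_comp, Scheme.Pullback.range_snd,
      show ⇑(c ≫ pullback.fst f a) ⁻¹' Set.range s = c ⁻¹' (pullback.fst f a ⁻¹' Set.range s) from rfl,
      Set.image_preimage_eq_inter_range, Scheme.Pullback.range_fst]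
    congr 2
    show Set.range (PrimeSpectrum.comap (IsLocalRing.residue R)) = _
    rw [range_comap_of_surjective _ _ IsLocalRing.residue_surjective, IsLocalRing.ker_residue]

/-- Over a henselian local base the components along a section are closed and lie in a proper clopen. -/
theorem sectionComponents_henselian (f : X ⟶ Y) [IsSeparated f] [LocallyOfFiniteType f] [QuasiCompact f]
    (g : Y ⟶ X) (hg : g ≫ f = 𝟙 Y) (y : Y)
    (hop : IsOpen ((f.fiberι y).base ⁻¹' connectedComponentIn (f.base ⁻¹' {y}) (g.base y)))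
    (hprop : IsProper (Scheme.Opens.ι (⟨(f.fiberι y).base ⁻¹' connectedComponentIn (f.base ⁻¹' {y}) (g.base y), hop⟩ : (f.fiber y).Opens) ≫
      f.fiberToSpecResidueField y))
    {R : CommRingCat.{u}} [HenselianLocalRing R] (a : Spec R ⟶ Y) (hay : a (IsLocalRing.closedPoint R) = y) :
    ∃ W : (pullback f a).Opens, IsProper (W.ι ≫ pullback.snd f a) ∧ IsClosed (W : Set ↥(pullback f a)) ∧
      pullback.fst f a ⁻¹' MoreMor.sectionComponents f g ⊆ W ∧
      IsClosed (pullback.fst f a ⁻¹' MoreMor.sectionComponents f g) := by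
  let Y₀ : (f.fiber y).Opens :=
    ⟨(f.fiberι y).base ⁻¹' connectedComponentIn (f.base ⁻¹' {y}) (g.base y), hop⟩
  haveI : IsProper (Y₀.ι ≫ f.fiberToSpecResidueField y) := hprop
  obtain ⟨T, t, ht, hr⟩ := exists_closedFibre_part f a y hay (Y₀.ι ≫ f.fiberι y)
    (Y₀.ι ≫ f.fiberToSpecResidueField y) (by rw [Category.assoc, Category.assoc]; congr 1; exact pullback.condition)
  let q := pullback.snd f a
  haveI : IsProper (t ≫ q) := ht
  obtain ⟨O₀, hO₀, hOY⟩ := (f.fiberι y).isEmbedding.isInducing.isOpen_iff.1 hop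
  have hO : Set.range t = (pullback.fst f a ⁻¹' O₀) ∩ q ⁻¹' PrimeSpectrum.zeroLocus (IsLocalRing.maximalIdeal R : Set R) := by
    rw [hr]
    ext p
    refine and_congr_left fun hp => ?_
    have hp' : q p = IsLocalRing.closedPoint R := by
      refine PrimeSpectrum.ext ?_
      exact ((IsLocalRing.maximalIdeal.isMaximal R).eq_of_le (q p).isPrime.ne_top
        ((PrimeSpectrum.mem_zeroLocus _ _).1 hp)).symm
    have hfp : f (pullback.fst f a p) = y := by
      rw [← Scheme.Hom.comp_apply, pullback.condition, Scheme.Hom.comp_apply]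
      exact (congrArg _ hp').trans hay
    obtain ⟨z, hz⟩ : pullback.fst f a p ∈ Set.range (f.fiberι y) := by
      rw [Scheme.Hom.range_fiberι]; exact hfp
    rw [Set.mem_preimage, Set.mem_preimage, Scheme.Hom.comp_base, TopCat.coe_comp, Set.range_comp,
      Scheme.Opens.range_ι, ← hz, (f.fiberι y).injective.mem_set_image]
    exact (Set.ext_iff.1 hOY z).symm
  obtain ⟨W, hWc, hWp, hW⟩ := exists_clopen_proper (IsLocalRing.maximalIdeal R) q t
    ⟨_, hO₀.preimage (pullback.fst f a).continuous⟩ hO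
  let gR : Spec R ⟶ pullback f a := pullback.lift (a ≫ g) (𝟙 _) (by rw [Category.assoc, hg, Category.comp_id, Category.id_comp])
  have hgR : gR ≫ q = 𝟙 _ := pullback.lift_snd _ _ _
  have hqg : ∀ p, q (gR p) = p := fun p => by rw [← Scheme.Hom.comp_apply, hgR]; rfl
  have hgy : f (g y) = y := by rw [← Scheme.Hom.comp_apply, hg]; rfl
  have hcl : gR (IsLocalRing.closedPoint R) ∈ W := by
    refine (hW.ge (hr.ge ⟨?_, ?_⟩)).1
    · rw [Set.mem_preimage, ← Scheme.Hom.comp_apply, pullback.lift_fst, Scheme.Hom.comp_apply, hay,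
        Scheme.Hom.comp_base, TopCat.coe_comp, Set.range_comp, Scheme.Opens.range_ι]
      obtain ⟨z, hz⟩ : g y ∈ Set.range (f.fiberι y) := by rw [Scheme.Hom.range_fiberι]; exact hgy
      refine ⟨z, ?_, hz⟩
      show f.fiberι y z ∈ connectedComponentIn (f ⁻¹' {y}) (g y)
      rw [hz]
      exact mem_connectedComponentIn hgy
    · rw [Set.mem_preimage, hqg]
      exact (PrimeSpectrum.mem_zeroLocus _ _).2 (Set.Subset.refl _)
  have hgW : ∀ p, gR p ∈ W := fun p =>
    (IsLocalRing.specializes_closedPoint p).mem_open (W.2.preimage gR.continuous) hcl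
  have hS : MoreMor.sectionComponents q gR = pullback.fst f a ⁻¹' MoreMor.sectionComponents f g :=
    S1324.result f g hg q (pullback.fst f a) a (IsPullback.of_hasPullback f a) gR hgR (pullback.lift_fst _ _ _)
  have hsub : MoreMor.sectionComponents q gR ⊆ (W : Set ↥(pullback f a)) := fun x hx =>
    (isPreconnected_connectedComponentIn).subset_isClopen ⟨hWc, W.2⟩
      ⟨gR (q x), mem_connectedComponentIn (hqg (q x)), hgW _⟩ hx
  refine ⟨W, hWp, hWc, hS ▸ hsub, hS ▸ ?_⟩
  haveI : IsProper (W.ι ≫ q) := hWp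
  let sW : Spec R ⟶ W.toScheme := IsOpenImmersion.lift W.ι gR (by
    rintro _ ⟨p, rfl⟩; rw [Scheme.Opens.range_ι]; exact hgW p)
  have hsW : sW ≫ W.ι = gR := IsOpenImmersion.lift_fac _ _ _
  have hcomp := isClosed_sectionComponents (W.ι ≫ q) sW (by rw [reassoc_of% hsW, hgR])
  haveI : IsClosedImmersion W.ι := IsClosedImmersion.of_isPreimmersion _ (by rw [Scheme.Opens.range_ι]; exact hWc)
  have hsWι : ∀ p, W.ι (sW p) = gR p := fun p => by rw [← Scheme.Hom.comp_apply, hsW]
  have e : MoreMor.sectionComponents q gR = W.ι '' MoreMor.sectionComponents (W.ι ≫ q) sW := by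
    refine Set.Subset.antisymm (fun x hx => ?_) ?_
    · let F := connectedComponentIn (q ⁻¹' {q x}) (gR (q x))
      have hF : F ⊆ Set.range W.ι := by
        rw [Scheme.Opens.range_ι]
        exact fun z hz => (isPreconnected_connectedComponentIn).subset_isClopen ⟨hWc, W.2⟩
          ⟨gR (q x), mem_connectedComponentIn (hqg (q x)), hgW _⟩ hz
      have hpre : _root_.IsPreconnected (W.ι ⁻¹' F) := by
        refine W.ι.isEmbedding.isInducing.isPreconnected_image.1 ?_
        rw [Set.image_preimage_eq_of_subset hF]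
        exact isPreconnected_connectedComponentIn
      obtain ⟨w, hw⟩ := hF hx
      refine ⟨w, ?_, hw⟩
      have hqw : (W.ι ≫ q) w = q x := by rw [Scheme.Hom.comp_apply, hw]
      show w ∈ connectedComponentIn ((W.ι ≫ q) ⁻¹' {(W.ι ≫ q) w}) (sW ((W.ι ≫ q) w))
      rw [hqw]
      refine hpre.subset_connectedComponentIn (x := sW (q x)) ?_ (fun z hz => ?_) (show W.ι w ∈ F from hw ▸ hx)
      · show W.ι (sW (q x)) ∈ F
        rw [hsWι]
        exact mem_connectedComponentIn (hqg (q x))
      · show (W.ι ≫ q) z = q x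
        rw [Scheme.Hom.comp_apply]
        exact connectedComponentIn_subset (q ⁻¹' {q x}) _ hz
    · rintro _ ⟨w, hw, rfl⟩
      let F := connectedComponentIn ((W.ι ≫ q) ⁻¹' {(W.ι ≫ q) w}) (sW ((W.ι ≫ q) w))
      have hF : W.ι '' F ⊆ connectedComponentIn (q ⁻¹' {q (W.ι w)}) (gR (q (W.ι w))) := by
        refine (isPreconnected_connectedComponentIn.image W.ι W.ι.continuous.continuousOn).subset_connectedComponentIn
          ⟨sW ((W.ι ≫ q) w), mem_connectedComponentIn ?_, ?_⟩ ?_
        · show (W.ι ≫ q) (sW ((W.ι ≫ q) w)) = (W.ι ≫ q) w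
          rw [Scheme.Hom.comp_apply, hsWι, hqg]
        · rw [hsWι, Scheme.Hom.comp_apply]
        · rintro _ ⟨z, hz, rfl⟩
          have := connectedComponentIn_subset ((W.ι ≫ q) ⁻¹' {(W.ι ≫ q) w}) _ hz
          simpa using this
      exact hF ⟨w, hw, rfl⟩
  rw [e]
  exact W.ι.isClosedEmbedding.isClosedMap _ hcomp

/-- A locally constructible set which becomes closed and proper over henselian local rings at `y` is
proper over a neighbourhood of `y`. -/
theorem exists_nhd_proper_of_henselian (f : X ⟶ Y) [IsSeparated f]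
    [LocallyOfFiniteType f] [QuasiCompact f] (Z : Set X) (hZ : IsLocallyConstructible Z) (y : Y)
    (hR : ∀ (R : CommRingCat.{u}) (_ : HenselianLocalRing R) (a : Spec R ⟶ Y),
      a (IsLocalRing.closedPoint R) = y → Set.range a ⊆ {y' | y' ⤳ y} →
      ∃ W : (pullback f a).Opens, IsProper (W.ι ≫ pullback.snd f a) ∧ IsClosed (W : Set ↥(pullback f a)) ∧
        pullback.fst f a ⁻¹' Z ⊆ W ∧ IsClosed (pullback.fst f a ⁻¹' Z)) :
    ∃ U : Y.Opens, y ∈ U ∧ ∃ hC : IsClosed ((f ⁻¹ᵁ U).ι.base ⁻¹' Z),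
      IsProper ((Scheme.IdealSheafData.vanishingIdeal
        (⟨(f ⁻¹ᵁ U).ι.base ⁻¹' Z, hC⟩ : TopologicalSpace.Closeds ↥(f ⁻¹ᵁ U))).subschemeι ≫
        (f ∣_ U)) := by
  have hrange : ∀ (R : CommRingCat.{u}) [IsLocalRing R] (a : Spec R ⟶ Y), a (IsLocalRing.closedPoint R) = y →
      Set.range a ⊆ {y' | y' ⤳ y} := by
    rintro R _ a h _ ⟨p, rfl⟩
    rw [← h]
    exact (IsLocalRing.specializes_closedPoint p).map a.continuous
  -- no point over a generization of `y` is in the closure but not in the set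
  obtain ⟨R, _, V, φ, hV, hφ, hy0⟩ := exists_henselian_nhd' y
  haveI := hφ
  let a : Spec R ⟶ Y := φ ≫ V.ι
  have hay : a (IsLocalRing.closedPoint R) = y := (Scheme.Hom.comp_apply _ _ _).trans hy0
  obtain ⟨_, _, _, _, hZR⟩ := hR R inferInstance a hay (hrange R a hay)
  have hgood : ∀ w ∈ closure Z, f w ⤳ y → w ∈ Z := by
    intro w hw hwy
    obtain ⟨p, hp, hpw⟩ := Flat.generalizingMap a (show f w ⤳ a (IsLocalRing.closedPoint R) by rwa [hay])
    obtain ⟨w', hw', -⟩ := Scheme.Pullback.exists_preimage_pullback (f := f) (g := a) w p hpw.symm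
    obtain ⟨z, hz, hzw⟩ := ProConsLib.exists_specializes_of_mem_closure (E := Z)
      (fun x => by
        obtain ⟨U, hxU, hU, hUc⟩ := hZ x
        exact ⟨U, hU, mem_of_mem_nhds hxU, {Subtype.val ⁻¹' Z}, by
          rintro _ rfl; exact hUc.isLocallyConstructible, (Set.sInter_singleton _).symm⟩) hw
    obtain ⟨z', hz', hzz⟩ := Flat.generalizingMap (pullback.fst f a) (show z ⤳ pullback.fst f a w' by rwa [hw'])
    have : w' ∈ pullback.fst f a ⁻¹' Z :=
      hZR.stableUnderSpecialization hz' (show pullback.fst f a z' ∈ Z by rw [hzz]; exact hz)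
    rw [Set.mem_preimage, hw'] at this
    exact this
  -- closed near `y`
  let C : TopologicalSpace.Closeds X := ⟨closure Z, isClosed_closure⟩
  let c := (Scheme.IdealSheafData.vanishingIdeal C).subschemeι
  have hrc : Set.range c = closure Z := by
    rw [Scheme.IdealSheafData.range_subschemeι]
    simp [C]
  let D : Set Y := f '' (closure Z ∩ Zᶜ)
  have hD : y ∉ closure D := by
    intro h
    have hDeq : D = (c ≫ f) '' (c ⁻¹' Zᶜ) := by
      rw [Scheme.Hom.comp_base, TopCat.coe_comp, Set.image_comp, Set.image_preimage_eq_range_inter, hrc]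
    have hE : ProCons.IsProConstructible (c ⁻¹' Zᶜ) := ProConsLib.preimage (fun x => by
      obtain ⟨U, hxU, hU, hUc⟩ := hZ x
      exact ⟨U, hU, mem_of_mem_nhds hxU, {Subtype.val ⁻¹' Zᶜ}, by
        rintro _ rfl; exact hUc.compl.isLocallyConstructible, (Set.sInter_singleton _).symm⟩) c
    obtain ⟨p, hp, hpy⟩ := ProConsLib.exists_specializes_of_mem_closure_image_scheme hE (c ≫ f) (hDeq ▸ h)
    exact hp (hgood _ (hrc.le ⟨p, rfl⟩) (by rwa [← Scheme.Hom.comp_apply]))
  let U₀ : Y.Opens := ⟨(closure D)ᶜ, isClosed_closure.isOpen_compl⟩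
  have hC₀ : IsClosed ((f ⁻¹ᵁ U₀).ι.base ⁻¹' Z) := by
    have e : (f ⁻¹ᵁ U₀).ι.base ⁻¹' Z = (f ⁻¹ᵁ U₀).ι.base ⁻¹' closure Z := by
      refine Set.Subset.antisymm (Set.preimage_mono subset_closure) fun x hx => ?_
      by_contra hxZ
      exact x.2 (subset_closure ⟨x.1, ⟨hx, hxZ⟩, rfl⟩)
    rw [e]
    exact isClosed_closure.preimage (f ⁻¹ᵁ U₀).ι.continuous
  let J := Scheme.IdealSheafData.vanishingIdeal (X := (f ⁻¹ᵁ U₀).toScheme) (⟨_, hC₀⟩ : TopologicalSpace.Closeds ↥(f ⁻¹ᵁ U₀))
  let k₀ : J.subscheme ⟶ X := J.subschemeι ≫ (f ⁻¹ᵁ U₀).ι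
  let k : J.subscheme ⟶ U₀.toScheme := J.subschemeι ≫ (f ∣_ U₀)
  have hk : k ≫ U₀.ι = k₀ ≫ f := by rw [Category.assoc, morphismRestrict_ι, ← Category.assoc]
  have hrk₀ : Set.range k₀ = Z ∩ (f ⁻¹ᵁ U₀ : Set X) := by
    rw [Scheme.Hom.comp_base, TopCat.coe_comp, Set.range_comp, Scheme.IdealSheafData.range_subschemeι]
    simp only [J, Scheme.IdealSheafData.coe_support_vanishingIdeal]
    show (f ⁻¹ᵁ U₀).ι '' ((f ⁻¹ᵁ U₀).ι ⁻¹' Z) = _
    rw [Set.image_preimage_eq_inter_range, Scheme.Opens.range_ι]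
  haveI : IsSeparated (f ∣_ U₀) := MorphismProperty.of_isPullback (isPullback_morphismRestrict f U₀).flip inferInstance
  haveI : QuasiCompact (f ∣_ U₀) := MorphismProperty.of_isPullback (isPullback_morphismRestrict f U₀).flip inferInstance
  haveI : LocallyOfFiniteType (f ∣_ U₀) := MorphismProperty.of_isPullback (isPullback_morphismRestrict f U₀).flip inferInstance
  -- proper near `y`
  let y₀ : U₀.toScheme := ⟨y, hD⟩
  obtain ⟨R', _, V', φ', hV', hφ', hy0'⟩ := exists_henselian_nhd' y₀
  haveI := hφ'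
  let b : Spec R' ⟶ U₀.toScheme := φ' ≫ V'.ι
  have hby : (b ≫ U₀.ι) (IsLocalRing.closedPoint R') = y := by
    rw [Scheme.Hom.comp_apply, show b (IsLocalRing.closedPoint R') = y₀ from (Scheme.Hom.comp_apply _ _ _).trans hy0']
    rfl
  obtain ⟨W, hWp, -, hWsub, hWZ⟩ := hR R' inferInstance (b ≫ U₀.ι) hby (hrange R' _ hby)
  haveI : IsProper (pullback.snd k b) := by
    have sq : IsPullback (pullback.fst k b) (pullback.snd k b) (k₀ ≫ f) (b ≫ U₀.ι) := by
      rw [← hk]
      exact FlatDvrVC5.isPullback_comp_mono U₀.ι (IsPullback.of_hasPullback k b)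
    let m : pullback k b ⟶ pullback f (b ≫ U₀.ι) := pullback.lift (pullback.fst k b ≫ k₀) (pullback.snd k b)
      (by rw [Category.assoc]; exact sq.w)
    have sqm : IsPullback (pullback.fst k b) m k₀ (pullback.fst f (b ≫ U₀.ι)) := by
      refine IsPullback.of_bot ?_ (pullback.lift_fst _ _ _).symm (IsPullback.of_hasPullback f (b ≫ U₀.ι))
      rw [pullback.lift_snd]
      exact sq
    haveI : IsImmersion k₀ := inferInstance
    haveI : IsImmersion m := MorphismProperty.of_isPullback (P := @IsImmersion) sqm inferInstance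
    have hrm : Set.range m = pullback.fst f (b ≫ U₀.ι) ⁻¹' Z := by
      refine Set.Subset.antisymm ?_ fun x hx => ?_
      · rintro _ ⟨p, rfl⟩
        show pullback.fst f (b ≫ U₀.ι) (m p) ∈ Z
        rw [← Scheme.Hom.comp_apply, pullback.lift_fst, Scheme.Hom.comp_apply]
        exact (hrk₀.le ⟨_, rfl⟩).1
      · have : pullback.fst f (b ≫ U₀.ι) x ∈ Set.range k₀ := by
          refine hrk₀.ge ⟨hx, ?_⟩
          show f (pullback.fst f (b ≫ U₀.ι) x) ∈ U₀
          rw [← Scheme.Hom.comp_apply, pullback.condition, Scheme.Hom.comp_apply, Scheme.Hom.comp_apply]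
          exact (b _).2
        obtain ⟨z, hz⟩ := this
        obtain ⟨p, -, hp⟩ := Scheme.exists_preimage_of_isPullback sqm z x hz
        exact ⟨p, hp⟩
    haveI : IsClosedImmersion m := IsClosedImmersion.of_isPreimmersion _ (hrm ▸ hWZ)
    let l : pullback k b ⟶ W.toScheme := IsOpenImmersion.lift W.ι m (by
      rw [Scheme.Opens.range_ι, hrm]; exact hWsub)
    have hl : l ≫ W.ι = m := IsOpenImmersion.lift_fac _ _ _
    haveI : IsClosedImmersion (l ≫ W.ι) := by rw [hl]; infer_instance
    haveI : IsClosedImmersion l := IsClosedImmersion.of_comp l W.ι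
    haveI : IsProper (W.ι ≫ pullback.snd f (b ≫ U₀.ι)) := hWp
    have e : pullback.snd k b = l ≫ W.ι ≫ pullback.snd f (b ≫ U₀.ι) := by
      rw [reassoc_of% hl]
      exact (pullback.lift_snd _ _ _).symm
    rw [e]
    infer_instance
  haveI : IsSeparated k := inferInstance
  obtain ⟨U', hyU', hU'⟩ := exists_nhd_isProper k hV' φ' (φ' (IsLocalRing.closedPoint R')) ⟨_, rfl⟩
  let U : Y.Opens := U₀.ι ''ᵁ U'
  have hUle : U ≤ U₀ := by
    rintro _ ⟨u, -, rfl⟩; exact u.2
  have hC : IsClosed ((f ⁻¹ᵁ U).ι.base ⁻¹' Z) := by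
    have e : (f ⁻¹ᵁ U).ι.base ⁻¹' Z =
        (fun x : ↥(f ⁻¹ᵁ U) => (⟨x.1, hUle x.2⟩ : ↥(f ⁻¹ᵁ U₀))) ⁻¹' ((f ⁻¹ᵁ U₀).ι.base ⁻¹' Z) := rfl
    rw [e]
    exact hC₀.preimage (continuous_subtype_val.subtype_mk _)
  refine ⟨U, ⟨y₀, hy0' ▸ hyU', rfl⟩, hC, ?_⟩
  let J' := Scheme.IdealSheafData.vanishingIdeal (X := (f ⁻¹ᵁ U).toScheme) (⟨_, hC⟩ : TopologicalSpace.Closeds ↥(f ⁻¹ᵁ U))
  let e : U'.toScheme ≅ U.toScheme := U₀.ι.isoImage U'
  have he : e.inv ≫ U'.ι ≫ U₀.ι = U.ι := Scheme.Hom.isoImage_inv_ι _ _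
  haveI : IsProper (pullback.snd k U'.ι) := by
    exact MorLib.Desc.of_two @IsProper (isPullback_morphismRestrict k U').flip (IsPullback.of_hasPullback k U'.ι) hU'
  let ev : pullback k U'.ι ⟶ (f ⁻¹ᵁ U).toScheme := (isPullback_morphismRestrict f U).flip.lift
    (pullback.fst k U'.ι ≫ k₀) (pullback.snd k U'.ι ≫ e.hom) (by
      rw [Category.assoc, ← hk, ← Category.assoc, pullback.condition, Category.assoc, Category.assoc]
      congr 1
      rw [← he, ← Category.assoc e.hom, e.hom_inv_id, Category.id_comp])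
  let t' := pullback.snd ev J'.subschemeι
  have hev₁ : ev ≫ (f ⁻¹ᵁ U).ι = pullback.fst k U'.ι ≫ k₀ :=
    (isPullback_morphismRestrict f U).flip.lift_fst _ _ _
  have hev₂ : ev ≫ (f ∣_ U) = pullback.snd k U'.ι ≫ e.hom :=
    (isPullback_morphismRestrict f U).flip.lift_snd _ _ _
  haveI : UniversallyClosed (t' ≫ J'.subschemeι ≫ (f ∣_ U)) := by
    rw [← Category.assoc, ← pullback.condition, Category.assoc, hev₂]
    infer_instance
  haveI : IsSeparated (f ∣_ U) := MorphismProperty.of_isPullback (isPullback_morphismRestrict f U).flip inferInstance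
  haveI : QuasiCompact (f ∣_ U) := MorphismProperty.of_isPullback (isPullback_morphismRestrict f U).flip inferInstance
  haveI : LocallyOfFiniteType (f ∣_ U) := MorphismProperty.of_isPullback (isPullback_morphismRestrict f U).flip inferInstance
  haveI : UniversallyClosed (J'.subschemeι ≫ (f ∣_ U)) := by
    refine ConsPropLib.universallyClosed_of_jointly_surjective (ι := PUnit.{1}) _ (fun _ => t') fun x => ?_
    have hx : (J'.subschemeι x).1 ∈ Z := by
      have := Set.mem_range_self (f := J'.subschemeι) x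
      rw [Scheme.IdealSheafData.range_subschemeι] at this
      simpa [J'] using this
    obtain ⟨p, hp⟩ : (J'.subschemeι x).1 ∈ Set.range k₀ :=
      hrk₀.ge ⟨hx, hUle (J'.subschemeι x).2⟩
    have hkp : U₀.ι (k p) = f (J'.subschemeι x).1 := by
      rw [← Scheme.Hom.comp_apply, hk, Scheme.Hom.comp_apply, hp]
    have hpU' : k p ∈ U' := by
      obtain ⟨u, hu, huf⟩ : f (J'.subschemeι x).1 ∈ U := (J'.subschemeι x).2
      rw [← U₀.ι.injective (huf.trans hkp.symm)]
      exact hu
    obtain ⟨q₁, hq₁, -⟩ := Scheme.Pullback.exists_preimage_pullback (f := k) (g := U'.ι) p ⟨k p, hpU'⟩ rfl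
    have hev : ev q₁ = J'.subschemeι x := by
      refine Subtype.ext ?_
      show (f ⁻¹ᵁ U).ι (ev q₁) = (J'.subschemeι x).1
      rw [← Scheme.Hom.comp_apply, hev₁, Scheme.Hom.comp_apply, hq₁, hp]
    obtain ⟨r, -, hr⟩ := Scheme.Pullback.exists_preimage_pullback (f := ev) (g := J'.subschemeι) q₁ x hev
    exact ⟨PUnit.unit, r, hr⟩
  exact ⟨⟩

/-- The section components are proper over a neighbourhood of a point where the component is proper. -/
theorem exists_nhd_sectionComponents_proper (f : X ⟶ Y) [IsSeparated f]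
    [LocallyOfFinitePresentation f] [QuasiCompact f] [QuasiSeparated f] (g : Y ⟶ X) (hg : g ≫ f = 𝟙 Y) (y : Y)
    (hop : IsOpen ((f.fiberι y).base ⁻¹' connectedComponentIn (f.base ⁻¹' {y}) (g.base y)))
    (hprop : IsProper (Scheme.Opens.ι (⟨(f.fiberι y).base ⁻¹' connectedComponentIn (f.base ⁻¹' {y}) (g.base y), hop⟩ : (f.fiber y).Opens) ≫
      f.fiberToSpecResidueField y)) :
    ∃ U : Y.Opens, y ∈ U ∧ ∃ hC : IsClosed ((f ⁻¹ᵁ U).ι.base ⁻¹' MoreMor.sectionComponents f g),
      IsProper ((Scheme.IdealSheafData.vanishingIdeal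
        (⟨(f ⁻¹ᵁ U).ι.base ⁻¹' MoreMor.sectionComponents f g, hC⟩ : TopologicalSpace.Closeds ↥(f ⁻¹ᵁ U))).subschemeι ≫
        (f ∣_ U)) :=
  exists_nhd_proper_of_henselian f _ (GeomLoci.isLocallyConstructible_sectionComponents f g hg) y
    fun _ _ a hay _ => sectionComponents_henselian f g hg y hop hprop a hay

end Groth.Agent.Compactify
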