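import Groth.Agent.SteinLib.General
import Groth.Agent.S9633

/-!
# The components of a section inside a proper scheme are a closed set
-/

set_option autoImplicit false
set_option linter.style.haveILetI false
set_option backward.isDefEq.respectTransparency false
set_option backward.isDefEq.respectTransparency.types false

open CategoryTheory CategoryTheory.Limits AlgebraicGeometry Topology

namespace Groth.Agent.Compactify

universe u

/-- Fibres of integral morphisms are totally disconnected. -/
theorem totallyDisconnected_fiber_of_isIntegralHom {X Y : Scheme.{u}} (f : X ⟶ Y) [IsIntegralHom f] (y : Y) :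
    TotallyDisconnectedSpace ↥(f.fiber y) := by
  let q := f.fiberToSpecResidueField y
  haveI : IsIntegralHom q := MorphismProperty.pullback_snd _ _ ‹_›
  haveI : IsAffine (f.fiber y) := isAffine_of_isAffineHom q
  let R := Γ(f.fiber y, ⊤)
  obtain ⟨φ, hφ⟩ : ∃ φ : Y.residueField y ⟶ R, Spec.map φ = (f.fiber y).isoSpec.inv ≫ q :=
    ⟨Spec.preimage _, Spec.map_preimage _⟩
  have hint : φ.hom.IsIntegral := by
    rw [← IsIntegralHom.SpecMap_iff, hφ]
    infer_instance
  have hmax : ∀ p : Ideal R, p.IsPrime → p.IsMaximal := fun p hp => by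
    letI := φ.hom.toAlgebra
    haveI : Algebra.IsIntegral (Y.residueField y) R := algebraMap_isIntegral_iff.mp hint
    haveI := hp
    refine Ideal.isMaximal_of_isIntegral_of_isMaximal_comap (R := Y.residueField y) p ?_
    rw [show Ideal.comap (algebraMap (Y.residueField y) R) p = ⊥ from
      (Ideal.eq_bot_or_top _).resolve_right (Ideal.comap_ne_top _ hp.ne_top)]
    exact Ideal.bot_isMaximal
  haveI : TotallyDisconnectedSpace (PrimeSpectrum R) :=
    ((S9633.result (R := R)).out 5 2).1 hmax
  haveI : TotallyDisconnectedSpace ↥(Spec R) := ‹TotallyDisconnectedSpace (PrimeSpectrum R)›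
  exact (f.fiber y).isoSpec.hom.homeomorph.symm.totallyDisconnectedSpace

/-- In a proper scheme the union of the components of the fibres through a section is closed. -/
theorem isClosed_sectionComponents {W T : Scheme.{u}} (h : W ⟶ T) [IsProper h] (s : T ⟶ W)
    (hs : s ≫ h = 𝟙 T) : IsClosed (MoreMor.sectionComponents h s) := by
  let π := h.toNormalization
  let ν := h.fromNormalization
  haveI : GeometricallyConnected π := SteinLib.geometricallyConnected_toNormalization_general h
  let σ : T ⟶ h.normalization := s ≫ π
  have hσ : σ ≫ ν = 𝟙 T := by rw [Category.assoc, h.toNormalization_fromNormalization, hs]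
  haveI : IsClosedImmersion σ := by
    haveI : IsClosedImmersion (σ ≫ ν) := by rw [hσ]; infer_instance
    exact IsClosedImmersion.of_comp σ ν
  have hπν : ∀ x, ν (π x) = h x := fun x => by
    rw [← Scheme.Hom.comp_apply, h.toNormalization_fromNormalization]
  have hsx : ∀ t, h (s t) = t := fun t => by
    rw [← Scheme.Hom.comp_apply, hs]; rfl
  have e : MoreMor.sectionComponents h s = π ⁻¹' Set.range σ := by
    ext x
    constructor
    · intro hx
      refine ⟨h x, ?_⟩
      have hsub := (isPreconnected_connectedComponentIn (F := h ⁻¹' {h x}) (x := s (h x))).image π π.continuous.continuousOn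
      haveI := totallyDisconnected_fiber_of_isIntegralHom ν (h x)
      have hmap : π '' connectedComponentIn (h ⁻¹' {h x}) (s (h x)) ⊆ Set.range (ν.fiberι (h x)) := by
        rintro _ ⟨z, hz, rfl⟩
        rw [Scheme.Hom.range_fiberι, Set.mem_preimage, hπν]
        exact connectedComponentIn_subset (h ⁻¹' {h x}) _ hz
      have hpre : _root_.IsPreconnected (ν.fiberι (h x) ⁻¹' (π '' connectedComponentIn (h ⁻¹' {h x}) (s (h x)))) := by
        refine (ν.fiberι (h x)).isEmbedding.isInducing.isPreconnected_image.1 ?_
        rwa [Set.image_preimage_eq_of_subset hmap]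
      obtain ⟨a, ha⟩ := hmap ⟨x, hx, rfl⟩
      obtain ⟨b, hb⟩ := hmap ⟨s (h x), mem_connectedComponentIn (hsx (h x)), rfl⟩
      have hab : a = b := hpre.subsingleton ⟨x, hx, ha.symm⟩ ⟨s (h x), mem_connectedComponentIn (hsx (h x)), hb.symm⟩
      rw [show σ (h x) = π (s (h x)) from Scheme.Hom.comp_apply _ _ _, ← hb, ← hab, ha]
    · rintro ⟨t, ht⟩
      have ht' : t = h x := by
        rw [← hπν, ← ht, ← Scheme.Hom.comp_apply, hσ]; rfl
      subst ht'
      refine (π.isConnected_preimage_singleton (π x)).isPreconnected.subset_connectedComponentIn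
        (x := s (h x)) ?_ ?_ rfl
      · rw [Set.mem_preimage, Set.mem_singleton_iff, ← ht]
        exact (Scheme.Hom.comp_apply _ _ _).symm
      · intro z hz
        show h z = h x
        rw [← hπν z, Set.mem_singleton_iff.1 hz, hπν]
  rw [e]
  exact σ.isClosedEmbedding.isClosed_range.preimage π.continuous

end Groth.Agent.Compactify
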