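import Groth.Agent.Compactify.Cover
import Groth.Agent.Graft.GenLift

/-!
# Proper parts of separated schemes over henselian pairs split off
-/

set_option autoImplicit false
set_option linter.style.haveILetI false
set_option backward.isDefEq.respectTransparency false
set_option backward.isDefEq.respectTransparency.types false

open CategoryTheory CategoryTheory.Limits AlgebraicGeometry Topology

namespace Groth.Agent.Compactify

universe u

/-- A closed set with proper image avoiding the closed part of a henselian pair is empty. -/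
theorem eq_empty_of_disjoint_zeroLocus {A : Type u} [CommRing A] (I : Ideal A) [HenselianRing A I]
    {W : Scheme.{u}} (q : W ⟶ Spec (CommRingCat.of A)) [UniversallyClosed q] {D : Set W} (hD : IsClosed D)
    (h : ∀ x ∈ D, q x ∉ PrimeSpectrum.zeroLocus (I : Set A)) : D = ∅ := by
  by_contra hne
  obtain ⟨y, hy⟩ := Set.nonempty_iff_ne_empty.mpr hne
  obtain ⟨m, hm, hle⟩ := Ideal.exists_le_maximal (q y).asIdeal (q y).isPrime.ne_top
  let p : PrimeSpectrum A := ⟨m, hm.isPrime⟩
  obtain ⟨z, hz, hzp⟩ : p ∈ q '' D := by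
    refine (q.isClosedMap D hD).stableUnderSpecialization ?_ ⟨y, hy, rfl⟩
    exact (PrimeSpectrum.le_iff_specializes _ _).mp hle
  refine h z hz ?_
  rw [hzp]
  exact (HenselianRing.jac (I := I)).trans (sInf_le ⟨bot_le, hm⟩)

/-- Over a henselian pair, a part of the closed fibre of a separated scheme of finite type which is
open in it and is the image of a scheme proper over the base spreads to a clopen proper subscheme. -/
theorem exists_clopen_proper {A : Type u} [CommRing A] (I : Ideal A) [HenselianRing A I]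
    {X : Scheme.{u}} (f : X ⟶ Spec (CommRingCat.of A)) [IsSeparated f] [LocallyOfFiniteType f]
    [QuasiCompact f] {T : Scheme.{u}} (t : T ⟶ X) [IsProper (t ≫ f)]
    (O : X.Opens) (hO : Set.range t = (O : Set X) ∩ f ⁻¹' PrimeSpectrum.zeroLocus (I : Set A)) :
    ∃ U : X.Opens, IsClosed (U : Set X) ∧ IsProper (U.ι ≫ f) ∧
      (U : Set X) ∩ f ⁻¹' PrimeSpectrum.zeroLocus (I : Set A) = Set.range t := by
  obtain ⟨C⟩ := nonempty_compCover f
  haveI := C.fin
  haveI := C.proper_π; haveI := C.proper_q; haveI := C.open_j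
  have hq : ∀ k (z : C.Z k), C.q k (C.j k z) = f (C.π k z) := fun k z => by
    rw [← Scheme.Hom.comp_apply, C.comm k, Scheme.Hom.comp_apply]
  -- the part of each member lying over the given part is clopen in the closed fibre
  have hlift : ∀ k, ∃ U : Set (C.W k), IsClopen U ∧ U ⊆ Set.range (C.j k) ∧
      ∀ z, f (C.π k z) ∈ PrimeSpectrum.zeroLocus (I : Set A) → (C.j k z ∈ U ↔ C.π k z ∈ Set.range t) := by
    intro k
    let Zk : Set (C.W k) := C.q k ⁻¹' PrimeSpectrum.zeroLocus (I : Set A)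
    let E : Set (C.W k) := C.j k '' (C.π k ⁻¹' Set.range t)
    have hEc : IsClosed E := by
      let g : pullback (C.π k) t ⟶ C.W k := pullback.fst (C.π k) t ≫ C.j k
      haveI : IsProper (g ≫ C.q k) := by
        rw [Category.assoc, C.comm k, ← Category.assoc, pullback.condition, Category.assoc]
        infer_instance
      haveI : IsProper g := IsProper.of_comp g (C.q k)
      have e : E = Set.range g := by
        show C.j k '' (C.π k ⁻¹' Set.range t) = Set.range (pullback.fst (C.π k) t ≫ C.j k).base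
        rw [Scheme.Hom.comp_base, TopCat.coe_comp, Set.range_comp, Scheme.Pullback.range_fst]
      rw [e]
      exact g.isClosedMap.isClosed_range
    have hEo : E = C.j k '' (C.π k ⁻¹' (O : Set X)) ∩ Zk := by
      ext w
      constructor
      · rintro ⟨z, hz, rfl⟩
        rw [Set.mem_preimage, hO] at hz
        refine ⟨⟨z, hz.1, rfl⟩, ?_⟩
        show C.q k (C.j k z) ∈ PrimeSpectrum.zeroLocus (I : Set A)
        rw [hq]; exact hz.2
      · rintro ⟨⟨z, hz, rfl⟩, hw⟩
        refine ⟨z, ?_, rfl⟩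
        rw [Set.mem_preimage, hO]
        exact ⟨hz, by rw [Set.mem_preimage, ← hq]; exact hw⟩
    have hV : IsClopen (Subtype.val ⁻¹' E : Set Zk) := by
      refine ⟨hEc.preimage continuous_subtype_val, ?_⟩
      have e : (Subtype.val ⁻¹' E : Set Zk) = Subtype.val ⁻¹' (C.j k '' (C.π k ⁻¹' (O : Set X))) := by
        ext ⟨w, hw⟩; exact ⟨fun h => (hEo.le h).1, fun h => hEo.ge ⟨h, hw⟩⟩
      rw [e]
      exact ((C.j k).isOpenEmbedding.isOpenMap _ (O.2.preimage (C.π k).continuous)).preimage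
        continuous_subtype_val
    obtain ⟨U, ⟨hU, hUV⟩, -⟩ := Graft.lifts_proper_pair I (C.q k) (Subtype.val ⁻¹' E) hV
    have hUiff : ∀ w ∈ Zk, (w ∈ U ↔ w ∈ E) := fun w hw => Set.ext_iff.1 hUV ⟨w, hw⟩
    refine ⟨U, hU, Set.sdiff_eq_empty.1 (eq_empty_of_disjoint_zeroLocus I (C.q k)
      (hU.1.sdiff (C.j k).isOpenEmbedding.isOpen_range) fun w hw hwI => ?_), fun z hz => ?_⟩
    · obtain ⟨z, -, rfl⟩ := (hUiff w hwI).1 hw.1
      exact hw.2 ⟨z, rfl⟩
    · rw [hUiff _ (show C.q k (C.j k z) ∈ PrimeSpectrum.zeroLocus (I : Set A) by rw [hq]; exact hz)]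
      exact (C.j k).injective.mem_set_image
  choose U hU hUr hUt using hlift
  let P : Set X := ⋃ k, C.π k '' (C.j k ⁻¹' U k)
  let N : Set X := ⋃ k, C.π k '' (C.j k ⁻¹' (U k)ᶜ)
  have hPc : IsClosed P := isClosed_iUnion_of_finite fun k =>
    (C.π k).isClosedMap _ ((hU k).1.preimage (C.j k).continuous)
  have hNc : IsClosed N := isClosed_iUnion_of_finite fun k =>
    (C.π k).isClosedMap _ ((hU k).compl.1.preimage (C.j k).continuous)
  have hN : ∀ x ∈ N, f x ∈ PrimeSpectrum.zeroLocus (I : Set A) → x ∉ Set.range t := by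
    intro x hx hxI hxt
    obtain ⟨k, z, hz, rfl⟩ := Set.mem_iUnion.1 hx
    exact hz ((hUt k z hxI).2 hxt)
  have hP : ∀ x ∈ P, f x ∈ PrimeSpectrum.zeroLocus (I : Set A) → x ∈ Set.range t := by
    intro x hx hxI
    obtain ⟨k, z, hz, rfl⟩ := Set.mem_iUnion.1 hx
    exact (hUt k z hxI).1 hz
  have hPN : Pᶜ = N := by
    refine Set.Subset.antisymm (fun x hx => ?_) fun x hxN hxP => ?_
    · obtain ⟨k, z, rfl⟩ := C.surj x
      exact Set.mem_iUnion.2 ⟨k, z, fun h => hx (Set.mem_iUnion.2 ⟨k, z, h, rfl⟩), rfl⟩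
    · obtain ⟨k, z, hz, rfl⟩ := Set.mem_iUnion.1 hxP
      let D : Set (C.W k) := C.j k '' (C.π k ⁻¹' N) ∩ U k
      have hD : IsClosed D := by
        refine isOpen_compl_iff.1 ?_
        have e : Dᶜ = (U k)ᶜ ∪ C.j k '' (C.π k ⁻¹' Nᶜ) := by
          ext w
          simp only [D, Set.mem_compl_iff, Set.mem_inter_iff, Set.mem_union]
          constructor
          · intro h
            by_cases hw : w ∈ U k
            · obtain ⟨v, rfl⟩ := hUr k hw
              exact Or.inr ⟨v, fun hv => h ⟨⟨v, hv, rfl⟩, hw⟩, rfl⟩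
            · exact Or.inl hw
          · rintro (h | ⟨v, hv, rfl⟩) ⟨h1, h2⟩
            · exact h h2
            · exact hv ((C.j k).injective.mem_set_image.1 h1)
        rw [e]
        exact (hU k).compl.2.union
          ((C.j k).isOpenEmbedding.isOpenMap _ (hNc.isOpen_compl.preimage (C.π k).continuous))
      have hD0 := eq_empty_of_disjoint_zeroLocus I (C.q k) hD fun w hw hwI => by
        obtain ⟨⟨v, hv, rfl⟩, hwU⟩ := hw
        rw [hq] at hwI
        exact hN _ hv hwI ((hUt k v hwI).1 hwU)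
      exact Set.eq_empty_iff_forall_notMem.1 hD0 _ ⟨⟨z, hxN, rfl⟩, hz⟩
  let P' : X.Opens := ⟨P, isClosed_compl_iff.1 (hPN ▸ hNc)⟩
  haveI : IsClosedImmersion P'.ι :=
    IsClosedImmersion.of_isPreimmersion _ (by rw [Scheme.Opens.range_ι]; exact hPc)
  refine ⟨P', hPc, ?_, Set.Subset.antisymm (fun x hx => hP x hx.1 hx.2) fun x hx => ?_⟩
  · -- universal closedness is tested on the members
    let Zk : C.ι → Scheme.{u} := fun k => (C.j k ⁻¹ᵁ ⟨U k, (hU k).2⟩).toScheme
    let ρ : ∀ k, Zk k ⟶ P'.toScheme := fun k => IsOpenImmersion.lift P'.ι ((Scheme.Opens.ι _) ≫ C.π k) (by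
      rintro _ ⟨z, rfl⟩
      rw [Scheme.Opens.range_ι]
      exact Set.mem_iUnion.2 ⟨k, z.1, z.2, rfl⟩)
    haveI : ∀ k, UniversallyClosed (ρ k ≫ P'.ι ≫ f) := fun k => by
      rw [IsOpenImmersion.lift_fac_assoc, Category.assoc, ← C.comm k, ← Category.assoc]
      haveI : IsClosedImmersion ((C.j k ⁻¹ᵁ ⟨U k, (hU k).2⟩).ι ≫ C.j k) :=
        IsClosedImmersion.of_isPreimmersion _ (by
          rw [Scheme.Hom.comp_base, TopCat.coe_comp, Set.range_comp, Scheme.Opens.range_ι]
          show IsClosed (C.j k '' (C.j k ⁻¹' U k))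
          rw [Set.image_preimage_eq_of_subset (hUr k)]
          exact (hU k).1)
      infer_instance
    haveI : UniversallyClosed (P'.ι ≫ f) := by
      refine ConsPropLib.universallyClosed_of_jointly_surjective _ ρ fun x => ?_
      obtain ⟨k, z, hz, he⟩ := Set.mem_iUnion.1 x.2
      refine ⟨k, ⟨z, hz⟩, P'.ι.injective ?_⟩
      rw [← Scheme.Hom.comp_apply, IsOpenImmersion.lift_fac]
      exact he
    exact ⟨⟩
  · have hxI : f x ∈ PrimeSpectrum.zeroLocus (I : Set A) := (hO.le hx).2
    refine ⟨?_, hxI⟩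
    obtain ⟨k, z, rfl⟩ := C.surj x
    exact Set.mem_iUnion.2 ⟨k, z, (hUt k z hxI).2 hx, rfl⟩

/-- The same, for an open of the closed fibre which is proper over its base. -/
theorem exists_clopen_proper_baseChange {A : Type u} [CommRing A] (I : Ideal A) [HenselianRing A I] (J : Ideal A)
    (hJ : PrimeSpectrum.zeroLocus (J : Set A) = PrimeSpectrum.zeroLocus (I : Set A))
    {X : Scheme.{u}} (f : X ⟶ Spec (CommRingCat.of A)) [IsSeparated f] [LocallyOfFiniteType f] [QuasiCompact f]
    (Y : (pullback f (Spec.map (CommRingCat.ofHom (Ideal.Quotient.mk J)))).Opens)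
    [IsProper (Y.ι ≫ pullback.snd f (Spec.map (CommRingCat.ofHom (Ideal.Quotient.mk J))))] :
    ∃ W : X.Opens, IsClosed (W : Set X) ∧ IsProper (W.ι ≫ f) ∧
      pullback.fst f (Spec.map (CommRingCat.ofHom (Ideal.Quotient.mk J))) ⁻¹ᵁ W = Y := by
  let i := Spec.map (CommRingCat.ofHom (Ideal.Quotient.mk J))
  haveI : IsClosedImmersion i := IsClosedImmersion.spec_of_surjective _ Ideal.Quotient.mk_surjective
  have hr : Set.range (pullback.fst f i) = f ⁻¹' PrimeSpectrum.zeroLocus (I : Set A) := by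
    rw [Scheme.Pullback.range_fst, ← hJ]
    congr 1
    show Set.range (PrimeSpectrum.comap (Ideal.Quotient.mk J)) = _
    rw [range_comap_of_surjective _ _ Ideal.Quotient.mk_surjective, Ideal.mk_ker]
  haveI : IsProper ((Y.ι ≫ pullback.fst f i) ≫ f) := by
    rw [Category.assoc, pullback.condition, ← Category.assoc]
    infer_instance
  obtain ⟨O, hO, hOY⟩ := (pullback.fst f i).isClosedEmbedding.isEmbedding.isInducing.isOpen_iff.1 Y.2
  have ht : Set.range (Y.ι ≫ pullback.fst f i) = O ∩ f ⁻¹' PrimeSpectrum.zeroLocus (I : Set A) := by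
    rw [Scheme.Hom.comp_base, TopCat.coe_comp, Set.range_comp, Scheme.Opens.range_ι, ← hr]
    have : ((Y : Set ↥(pullback f i))) = pullback.fst f i ⁻¹' O := hOY.symm
    rw [this, Set.image_preimage_eq_inter_range]
  obtain ⟨W, hWc, hWp, hW⟩ := exists_clopen_proper I f (Y.ι ≫ pullback.fst f i) ⟨O, hO⟩ ht
  refine ⟨W, hWc, hWp, TopologicalSpace.Opens.ext (Set.ext fun y => ?_)⟩
  have hy : f (pullback.fst f i y) ∈ PrimeSpectrum.zeroLocus (I : Set A) := hr.le ⟨y, rfl⟩
  have e := Set.ext_iff.1 (hW.trans ht) (pullback.fst f i y)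
  exact ⟨fun h => hOY.le (e.1 ⟨h, hy⟩).1, fun h => (e.2 ⟨hOY.ge h, hy⟩).1⟩

/-- A proper subscheme meeting the closed fibre only inside a clopen lies in it. -/
theorem subset_clopen_of_proper {A : Type u} [CommRing A] (I : Ideal A) [HenselianRing A I]
    {X P : Scheme.{u}} (f : X ⟶ Spec (CommRingCat.of A)) (i : P ⟶ X) [UniversallyClosed (i ≫ f)]
    (W : X.Opens) (hW : f ⁻¹' PrimeSpectrum.zeroLocus (I : Set A) ⊆ W) :
    Set.range i ⊆ (W : Set X) := by
  rintro _ ⟨p, rfl⟩
  by_contra hp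
  refine Set.eq_empty_iff_forall_notMem.1 (eq_empty_of_disjoint_zeroLocus I (i ≫ f)
    (W.2.isClosed_compl.preimage i.continuous) fun q hq hqI => hq (hW ?_)) p hp
  rw [Set.mem_preimage, ← Scheme.Hom.comp_apply]
  exact hqI

end Groth.Agent.Compactify
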